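import Groth.Agent.H26TF1.Beta
import Mathlib

/-!
# Torsion-free quotients of an extension: the defect
-/

set_option autoImplicit false
set_option linter.style.haveILetI false

universe u

open CategoryTheory CategoryTheory.Limits AlgebraicGeometry TopologicalSpace

namespace Groth.Agent.H26TF1

open Groth.Agent.H06Mod Groth.Agent.H29Omega Groth.Agent.H17.KoszTwist

variable {X : Scheme.{u}} [AlgebraicGeometry.IsNoetherian X] [AlgebraicGeometry.IsReduced X] {J GY : X.Modules}

omit [AlgebraicGeometry.IsNoetherian X] [AlgebraicGeometry.IsReduced X] in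
theorem isTorsionFree_of_mono' {A B : X.Modules} (m : A ⟶ B) [Mono m] (h : TorSh.IsTorsionFree B) :
    TorSh.IsTorsionFree A := fun x =>
  haveI := h x
  Function.Injective.moduleIsTorsionFree (stalkLin m x) (stalk_injective_of_mono m x) fun r v => map_smul _ r v

omit [AlgebraicGeometry.IsNoetherian X] [AlgebraicGeometry.IsReduced X] in
theorem subsingleton_kernel_of_injective {A B : X.Modules} (φ : A ⟶ B) {x : X}
    (h : Function.Injective (stalkLin φ x)) : Subsingleton ((kernel φ).presheaf.stalk x) :=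
  subsingleton_of_forall_eq 0 fun v => stalk_injective_of_mono (kernel.ι φ) x (h (by
    rw [← stalkLin_comp, kernel.condition, map_zero, map_zero]; exact stalkLin_zero _ _))

omit [AlgebraicGeometry.IsNoetherian X] [AlgebraicGeometry.IsReduced X] in
theorem surjStalk {A B : X.Modules} (φ : A ⟶ B) [Epi φ] (x : X) : Function.Surjective (stalkLin φ x) :=
  H06Mod.surjective_stalk_of_epi φ x

/-- A morphism out of a torsion-free module injective at the generic points is a monomorphism. -/
theorem mono_of_generic {A B : X.Modules} (hA : Coh.IsCoh A) (htA : TorSh.IsTorsionFree A) (φ : A ⟶ B)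
    (h : ∀ η ∈ genericPoints X, Function.Injective (stalkLin φ η)) : Mono φ :=
  Preadditive.mono_of_kernel_zero (eq_zero_of_generic hA htA _ fun η hη a => by
    haveI := subsingleton_kernel_of_injective φ (h η hη)
    rw [Subsingleton.elim a 0, map_zero])

/-- Uniqueness of the torsion-free quotient. -/
theorem exists_quotIso (hJ : TFOne.IsTF1 X J) {T : Set X} {G G' : X.Modules} {π : J ⟶ G} {π' : J ⟶ G'}
    (h : TFOne.IsQuotOn X J T G π) (h' : TFOne.IsQuotOn X J T G' π') : Nonempty (G ≅ G') := by
  obtain ⟨e, c, t, s⟩ := h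
  obtain ⟨e', c', t', s'⟩ := h'
  obtain ⟨φ, hφ⟩ := exists_desc_of_support hJ π c' t' π' (by rw [s, s'])
  obtain ⟨ψ, hψ⟩ := exists_desc_of_support hJ π' c t π (by rw [s, s'])
  exact ⟨⟨φ, ψ, by rw [← cancel_epi π, ← Category.assoc, hφ, hψ, Category.comp_id],
    by rw [← cancel_epi π', ← Category.assoc, hψ, hφ, Category.comp_id]⟩⟩

omit [AlgebraicGeometry.IsNoetherian X] in
theorem isQuotOn_univ (hJ : TFOne.IsTF1 X J) : TFOne.IsQuotOn X J Set.univ J (𝟙 J) := by
  refine ⟨inferInstance, hJ.1, hJ.2.1, Set.eq_univ_of_forall fun x => ?_⟩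
  obtain ⟨η, hη, hηx⟩ := H8Props.exists_genericPoints_specializes x
  refine hηx.mem_closed (H10Coh.isClosed_support J hJ.1.2) ((mem_support_iff η).2 ?_)
  obtain ⟨e⟩ := hJ.2.2 η hη
  exact e.toEquiv.nontrivial

/-- The middle of an extension of `ker πY` by `GY`. -/
theorem isTF1_extension (hJ : TFOne.IsTF1 X J) {Y : Set X} {πY : J ⟶ GY} (hGY : TFOne.IsQuotOn X J Y GY πY)
    {J' : X.Modules} (a : GY ⟶ J') (b : J' ⟶ kernel πY) (w : a ≫ b = 0)
    (hex : (ShortComplex.mk a b w).ShortExact) : TFOne.IsTF1 X J' := by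
  obtain ⟨eY, cY, tY, sY⟩ := hGY
  have cN : Coh.IsCoh (kernel πY) := H10Coh.isCoh_kernel _ hJ.1 cY.1
  have tN : TorSh.IsTorsionFree (kernel πY) := isTorsionFree_of_mono' (kernel.ι πY) hJ.2.1
  have hc : Coh.IsCoh J' := H10Coh.isCoh_X₂ hex cY cN
  refine ⟨hc, fun x => ?_, fun η hη => ?_⟩
  · refine ⟨fun {s} hs v v' hvv => ?_⟩
    rw [← sub_eq_zero]
    have h0 : s • (v - v') = 0 := by rw [smul_sub]; exact sub_eq_zero.2 hvv
    generalize v - v' = z at h0 ⊢
    haveI := tN x
    haveI := tY x
    have hbz : stalkLin b x z = 0 :=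
      (hs.isSMulRegular (M := (kernel πY).presheaf.stalk x)) (by
        show s • stalkLin b x z = s • (0 : (kernel πY).presheaf.stalk x)
        rw [← map_smul, h0, map_zero, smul_zero])
    obtain ⟨g, rfl⟩ := (stalk_exact _ hex x z).1 hbz
    have : g = 0 := (hs.isSMulRegular (M := GY.presheaf.stalk x)) (by
      show s • g = s • (0 : GY.presheaf.stalk x)
      rw [smul_zero]
      refine stalk_injective (ShortComplex.mk a b w) hex x ?_
      rw [map_zero, map_smul]
      exact h0)
    rw [this, map_zero]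
  · obtain ⟨e⟩ := hJ.2.2 η hη
    by_cases hy : η ∈ Y
    · have b1 := bijective_at_generic hJ hη πY (sY ▸ hy)
      haveI : Subsingleton ((kernel πY).presheaf.stalk η) := subsingleton_kernel_of_injective πY b1.1
      have b2 : Function.Bijective (stalkLin a η) := ⟨stalk_injective (ShortComplex.mk a b w) hex η, fun z =>
        (stalk_exact _ hex η z).1 (Subsingleton.elim _ _)⟩
      exact ⟨(LinearEquiv.ofBijective _ b2).symm ≪≫ₗ (LinearEquiv.ofBijective _ b1).symm ≪≫ₗ e⟩
    · haveI : Subsingleton (GY.presheaf.stalk η) := subsingleton_of_notMem (by rw [sY]; exact hy)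
      have b1 : Function.Bijective (stalkLin (kernel.ι πY) η) := ⟨stalk_injective_of_mono _ η, fun z =>
        (range_stalk_kernelι πY η).ge (Subsingleton.elim _ _ : stalkLin πY η z = 0)⟩
      have b2 : Function.Bijective (stalkLin b η) := ⟨(injective_iff_map_eq_zero _).2 fun z hz => by
          obtain ⟨g, rfl⟩ := (stalk_exact _ hex η z).1 hz
          rw [Subsingleton.elim g 0, map_zero],
        stalk_surjective (ShortComplex.mk a b w) hex η⟩
      exact ⟨LinearEquiv.ofBijective _ b2 ≪≫ₗ LinearEquiv.ofBijective _ b1 ≪≫ₗ e⟩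

/-- **The defect.**  For a quotient `G1` on `Z` of the extension, `G1` and `GY` differ from `GW` and `GU`
by a module with finite support. -/
theorem exists_defect (hJ : TFOne.IsTF1 X J) {Y Z W : Set X} {πY : J ⟶ GY}
    (hGY : TFOne.IsQuotOn X J Y GY πY) {J' : X.Modules} (a : GY ⟶ J') (b : J' ⟶ kernel πY) (w : a ≫ b = 0)
    (hex : (ShortComplex.mk a b w).ShortExact)
    (hW : ∀ η ∈ genericPoints X, η ∈ W ↔ η ∈ Y ∧ η ∈ Z) (hWY : W ⊆ Y)
    {G1 GW GU : X.Modules} {π1 : J' ⟶ G1} {πW : J ⟶ GW} {πU : J ⟶ GU}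
    (hG1 : TFOne.IsQuotOn X J' Z G1 π1) (hGW : TFOne.IsQuotOn X J W GW πW)
    (hGU : TFOne.IsQuotOn X J (Y ∪ Z) GU πU) :
    ∃ D : X.Modules, Coh.IsCoh D ∧ (∀ η ∈ genericPoints X, η ∉ CohB1.support D) ∧
      (∀ B : X.Modules → ℤ, H28Int.IsAddFn B → B G1 + B GY = B GW + B GU + B D) ∧
      (W = ∅ → IsZero D) ∧ ((∀ η ∈ genericPoints X, η ∈ Y ∨ η ∈ Z) → IsZero D) := by
  have hJ' := isTF1_extension hJ hGY a b w hex
  obtain ⟨eY, cY, tY, sY⟩ := hGY
  obtain ⟨eW, cW, tW, sW⟩ := hGW
  obtain ⟨eU, cU, tU, sU⟩ := hGU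
  obtain ⟨e1, c1, t1, s1⟩ := hG1
  haveI := hex.mono_f
  haveI := hex.epi_g
  have cN : Coh.IsCoh (kernel πY) := H10Coh.isCoh_kernel _ hJ.1 cY.1
  -- outside `Y` nothing comes from `GY`
  have zY : ∀ η : X, η ∉ Y → Subsingleton (GY.presheaf.stalk η) := fun η h =>
    subsingleton_of_notMem (by rw [sY]; exact h)
  have zW : ∀ η : X, η ∉ W → Subsingleton (GW.presheaf.stalk η) := fun η h =>
    subsingleton_of_notMem (by rw [sW]; exact h)
  have z1 : ∀ η : X, η ∉ Z → Subsingleton (G1.presheaf.stalk η) := fun η h =>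
    subsingleton_of_notMem (by rw [s1]; exact h)
  -- `GY → J' → G1` factors through `GW`
  obtain ⟨e, he⟩ := exists_desc_of_support hJ πY cW tW πW (by rw [sY, sW]; exact hWY)
  haveI : Epi e := by
    haveI : Epi (πY ≫ e) := he.symm ▸ eW
    exact epi_of_epi πY e
  have he' : ∀ η ∈ genericPoints X, η ∈ W → Function.Bijective (stalkLin e η) := fun η hη hw => by
    have h1 := bijective_at_generic hJ hη πW (sW ▸ hw)
    have h2 := bijective_at_generic hJ hη πY (sY ▸ hWY hw)
    refine (Function.Bijective.of_comp_iff (stalkLin e η) h2).1 ?_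
    convert h1 using 1
    funext j; rw [Function.comp_apply, ← stalkLin_comp, he]
  have hc0 : kernel.ι e ≫ a ≫ π1 = 0 := eq_zero_of_generic c1 t1 _ fun η hη v => by
    by_cases hw : η ∈ W
    · haveI := subsingleton_kernel_of_injective e (he' η hη hw).1
      rw [Subsingleton.elim v 0, map_zero]
    · by_cases hy : η ∈ Y
      · haveI := z1 η fun hz => hw ((hW η hη).2 ⟨hy, hz⟩)
        exact Subsingleton.elim _ _
      · haveI := zY η hy
        rw [stalkLin_comp, Subsingleton.elim (stalkLin (kernel.ι e) η v) 0, map_zero]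
  let cb : GW ⟶ G1 := Abelian.epiDesc e (a ≫ π1) hc0
  have hcb : e ≫ cb = a ≫ π1 := Abelian.comp_epiDesc _ _ _
  haveI : Mono cb := mono_of_generic cW tW cb fun η hη => by
    by_cases hw : η ∈ W
    · obtain ⟨hy, hz⟩ := (hW η hη).1 hw
      intro u v huv
      obtain ⟨u', rfl⟩ := (he' η hη hw).2 u
      obtain ⟨v', rfl⟩ := (he' η hη hw).2 v
      rw [← stalkLin_comp, ← stalkLin_comp, hcb, stalkLin_comp, stalkLin_comp] at huv
      rw [stalk_injective_of_mono a η ((bijective_at_generic hJ' hη π1 (s1 ▸ hz)).1 huv)]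
    · haveI := zW η hw
      exact Function.injective_of_subsingleton _
  let C := cokernel cb
  have cC : Coh.IsCoh C := H10Coh.isCoh_cokernel cb cW.1 c1
  let r : G1 ⟶ C := cokernel.π cb
  have har : a ≫ π1 ≫ r = 0 := by
    rw [← Category.assoc, ← hcb, Category.assoc, cokernel.condition, comp_zero]
  let d : kernel πY ⟶ C := hex.exact.desc (π1 ≫ r) har
  have hd : b ≫ d = π1 ≫ r := hex.exact.g_desc _ _
  haveI : Epi d := by
    haveI : Epi (b ≫ d) := by rw [hd]; haveI := e1; exact epi_comp _ _
    exact epi_of_epi b d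
  -- `kernel πY` maps onto the kernel of `GU → GY`
  obtain ⟨g, hg⟩ := exists_desc_of_support hJ πU cY tY πY (by rw [sY, sU]; exact Set.subset_union_left)
  haveI : Epi g := by
    haveI : Epi (πU ≫ g) := hg.symm ▸ eY
    exact epi_of_epi πU g
  let s : kernel πY ⟶ kernel g := kernel.lift g (kernel.ι πY ≫ πU) (by
    rw [Category.assoc, hg, kernel.condition])
  have hs : s ≫ kernel.ι g = kernel.ι πY ≫ πU := kernel.lift_ι _ _ _
  haveI : Epi s := epi_of_surjective_stalkLin _ fun x n => by
    obtain ⟨j, hj⟩ := surjStalk πU x (stalkLin (kernel.ι g) x n)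
    have hj0 : stalkLin πY x j = 0 := by
      rw [← hg, stalkLin_comp]
      refine (congrArg (stalkLin g x) hj).trans ?_
      rw [← stalkLin_comp, kernel.condition]
      exact stalkLin_zero _ _
    obtain ⟨m, rfl⟩ := (range_stalk_kernelι πY x).ge hj0
    exact ⟨m, stalk_injective_of_mono (kernel.ι g) x (by rw [← stalkLin_comp, hs, stalkLin_comp]; exact hj)⟩
  have sinj : ∀ η ∈ genericPoints X, η ∈ Z → Function.Injective (stalkLin s η) := fun η hη hz u v huv => by
    refine stalk_injective_of_mono (kernel.ι πY) η ((bijective_at_generic hJ hη πU (sU ▸ Or.inr hz)).1 ?_)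
    rw [← stalkLin_comp, ← stalkLin_comp, ← hs, stalkLin_comp, stalkLin_comp, huv]
  let δ : kernel s ⟶ C := kernel.ι s ≫ d
  have cK : Coh.IsCoh (kernel g) := H10Coh.isCoh_kernel _ cU cY.1
  have cC'' : Coh.IsCoh (cokernel δ) :=
    H10Coh.isCoh_cokernel δ (H10Coh.isCoh_kernel _ cN cK.1).1 cC
  let D := kernel (cokernel.π δ)
  have cD : Coh.IsCoh D := H10Coh.isCoh_kernel _ cC cC''.1
  -- the kernel of `GU → GY` is the torsion-free part of `C`
  let t : kernel g ⟶ cokernel δ := Abelian.epiDesc s (d ≫ cokernel.π δ) (by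
    rw [← Category.assoc]; exact cokernel.condition δ)
  have hts : s ≫ t = d ≫ cokernel.π δ := Abelian.comp_epiDesc _ _ _
  haveI : Epi t := by
    haveI : Epi (s ≫ t) := by rw [hts]; exact epi_comp _ _
    exact epi_of_epi s t
  -- the generic stalks
  have C0 : ∀ η ∈ genericPoints X, η ∈ Y ∨ η ∉ Z → Subsingleton (C.presheaf.stalk η) := fun η hη h => by
    refine subsingleton_of_forall_eq 0 fun q => ?_
    obtain ⟨m, rfl⟩ := surjStalk d η q
    rcases em (η ∈ Y) with hy | hy
    · haveI := subsingleton_kernel_of_injective πY (bijective_at_generic hJ hη πY (sY ▸ hy)).1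
      rw [Subsingleton.elim m 0, map_zero]
    · obtain ⟨j, rfl⟩ := surjStalk b η m
      haveI := z1 η (h.resolve_left hy)
      rw [← stalkLin_comp, hd, stalkLin_comp, Subsingleton.elim (stalkLin π1 η j) 0, map_zero]
  have K0 : ∀ η ∈ genericPoints X, η ∈ Z → Subsingleton ((kernel s).presheaf.stalk η) := fun η hη hz =>
    subsingleton_kernel_of_injective s (sinj η hη hz)
  have D0 : ∀ η ∈ genericPoints X, Subsingleton (D.presheaf.stalk η) := fun η hη => by
    refine subsingleton_of_forall_eq 0 fun q => stalk_injective_of_mono (kernel.ι _) η ?_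
    rw [map_zero]
    by_cases hc : η ∈ Y ∨ η ∉ Z
    · haveI := C0 η hη hc
      exact Subsingleton.elim _ _
    · have hz : η ∈ Z := by by_contra h; exact hc (Or.inr h)
      haveI := K0 η hη hz
      obtain ⟨κ, hκ⟩ := (range_eq_ker_of_exact (ShortComplex.mk δ (cokernel.π δ) (cokernel.condition δ))
        (ShortComplex.exact_cokernel δ) η).ge (show stalkLin (kernel.ι (cokernel.π δ)) η q ∈
          LinearMap.ker (stalkLin (cokernel.π δ) η) by
        rw [LinearMap.mem_ker, ← stalkLin_comp, kernel.condition]; exact stalkLin_zero _ _)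
      rw [← hκ, Subsingleton.elim κ 0, map_zero]
  haveI : Mono t := mono_of_generic cK (isTorsionFree_of_mono' (kernel.ι g) tU) t fun η hη => by
    by_cases hy : η ∈ Y
    · haveI : Subsingleton ((kernel g).presheaf.stalk η) := subsingleton_of_forall_eq 0 fun n => by
        obtain ⟨m, rfl⟩ := surjStalk s η n
        haveI := subsingleton_kernel_of_injective πY (bijective_at_generic hJ hη πY (sY ▸ hy)).1
        rw [Subsingleton.elim m 0, map_zero]
      exact Function.injective_of_subsingleton _
    by_cases hz : η ∈ Z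
    · haveI := K0 η hη hz
      haveI := zW η fun h => hy (hWY h)
      haveI := zY η hy
      rw [injective_iff_map_eq_zero]
      intro n hn
      obtain ⟨m, rfl⟩ := surjStalk s η n
      rw [← stalkLin_comp, hts, stalkLin_comp] at hn
      obtain ⟨κ, hκ⟩ := (range_eq_ker_of_exact (ShortComplex.mk δ (cokernel.π δ) (cokernel.condition δ))
        (ShortComplex.exact_cokernel δ) η).ge (LinearMap.mem_ker.2 hn)
      have hdm : stalkLin d η m = 0 := by rw [← hκ, Subsingleton.elim κ 0, map_zero]
      obtain ⟨j, rfl⟩ := surjStalk b η m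
      rw [← stalkLin_comp, hd, stalkLin_comp] at hdm
      obtain ⟨u, hu⟩ := (range_eq_ker_of_exact (ShortComplex.mk cb r (cokernel.condition cb))
        (ShortComplex.exact_cokernel cb) η).ge (LinearMap.mem_ker.2 hdm)
      have : stalkLin π1 η j = 0 := by rw [← hu, Subsingleton.elim u 0, map_zero]
      rw [(bijective_at_generic hJ' hη π1 (s1 ▸ hz)).1 (this.trans (map_zero _).symm), map_zero, map_zero]
    · haveI : Subsingleton (GU.presheaf.stalk η) := subsingleton_of_notMem (by
        rw [sU]; exact fun h => h.elim hy hz)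
      haveI : Subsingleton ((kernel g).presheaf.stalk η) :=
        (stalk_injective_of_mono (kernel.ι g) η).subsingleton
      exact Function.injective_of_subsingleton _
  haveI : IsIso t := isIso_of_mono_of_epi t
  refine ⟨D, cD, fun η hη h => h (D0 η hη), fun B hB => ?_, fun hW0 => ?_, fun hU => ?_⟩
  · have h1 := hB.add (ShortComplex.mk cb r (cokernel.condition cb))
      { exact := ShortComplex.exact_cokernel cb } cW c1 cC
    have h2 := hB.add (ShortComplex.mk (kernel.ι (cokernel.π δ)) (cokernel.π δ) (kernel.condition _))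
      { exact := ShortComplex.exact_kernel _ } cD cC cC''
    have h3 := hB.add (ShortComplex.mk (kernel.ι g) g (kernel.condition g))
      { exact := ShortComplex.exact_kernel g } cK cU cY
    have h4 := hB.congr (asIso t)
    dsimp only at h1 h2 h3
    show B G1 + B GY = B GW + B GU + B (kernel (cokernel.π δ))
    omega
  · -- with `W = ∅` the module `C` is `G1`, which is torsion-free
    have hW0' : IsZero GW := (IsZero.iff_id_eq_zero _).2 (eq_zero_of_stalkLin _ fun x v => by
      haveI := zW x (by rw [hW0]; exact Set.notMem_empty x)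
      exact Subsingleton.elim _ _)
    haveI : IsIso r := by
      haveI : Mono r := Preadditive.mono_of_kernel_zero (eq_zero_of_stalkLin _ fun x v => by
        obtain ⟨u, hu⟩ := (range_eq_ker_of_exact (ShortComplex.mk cb r (cokernel.condition cb))
          (ShortComplex.exact_cokernel cb) x).ge (show stalkLin (kernel.ι r) x v ∈ LinearMap.ker (stalkLin r x) by
            rw [LinearMap.mem_ker, ← stalkLin_comp, kernel.condition]; exact stalkLin_zero _ _)
        haveI := zW x (by rw [hW0]; exact Set.notMem_empty x)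
        rw [← hu, Subsingleton.elim u 0, map_zero])
      exact isIso_of_mono_of_epi r
    have tC : TorSh.IsTorsionFree C := isTorsionFree_of_mono' (inv r) t1
    refine (IsZero.iff_id_eq_zero _).2 ((cancel_mono (kernel.ι (cokernel.π δ))).1 ?_)
    rw [Category.id_comp, zero_comp]
    exact eq_zero_of_generic cC tC _ fun η hη v => by
      haveI := D0 η hη
      rw [Subsingleton.elim v 0, map_zero]
  · haveI : Mono πU := mono_of_generic hJ.1 hJ.2.1 πU fun η hη =>
      (bijective_at_generic hJ hη πU (sU ▸ hU η hη)).1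
    haveI : Mono s := by
      haveI : Mono (s ≫ kernel.ι g) := by rw [hs]; exact mono_comp _ _
      exact mono_of_mono s (kernel.ι g)
    have hδ : δ = 0 := by
      show kernel.ι s ≫ d = 0
      rw [kernel.ι_of_mono, zero_comp]
    refine (IsZero.iff_id_eq_zero _).2 ((cancel_mono (kernel.ι (cokernel.π δ))).1 ?_)
    rw [Category.id_comp, zero_comp]
    haveI : Mono (cokernel.π δ) := by
      rw [show cokernel.π δ = cokernel.π δ from rfl]
      refine Preadditive.mono_of_kernel_zero (eq_zero_of_stalkLin _ fun x v => ?_)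
      obtain ⟨κ, hκ⟩ := (range_eq_ker_of_exact (ShortComplex.mk δ (cokernel.π δ) (cokernel.condition δ))
        (ShortComplex.exact_cokernel δ) x).ge (show stalkLin (kernel.ι (cokernel.π δ)) x v ∈
          LinearMap.ker (stalkLin (cokernel.π δ) x) by
        rw [LinearMap.mem_ker, ← stalkLin_comp, kernel.condition]; exact stalkLin_zero _ _)
      rw [← hκ]
      show stalkLin δ x κ = 0
      rw [hδ]; exact stalkLin_zero _ _
    exact kernel.ι_of_mono _

/-- On `Y` itself: the defect vanishes exactly when the extension decomposes at `Y`. -/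
theorem exists_self_defect (hJ : TFOne.IsTF1 X J) {Y Y' : Set X} {πY : J ⟶ GY}
    (hGY : TFOne.IsQuotOn X J Y GY πY) {J' : X.Modules} (a : GY ⟶ J') (b : J' ⟶ kernel πY) (w : a ≫ b = 0)
    (hex : (ShortComplex.mk a b w).ShortExact)
    (hY' : ∀ η ∈ genericPoints X, η ∈ Y' ↔ η ∉ Y) {G1 G2 : X.Modules} {π1 : J' ⟶ G1} {π2 : J' ⟶ G2}
    (hG1 : TFOne.IsQuotOn X J' Y G1 π1) (hG2 : TFOne.IsQuotOn X J' Y' G2 π2) :
    ∃ D : X.Modules, Coh.IsCoh D ∧ (∀ η ∈ genericPoints X, η ∉ CohB1.support D) ∧
      (∀ B : X.Modules → ℤ, H28Int.IsAddFn B → B G1 = B GY + B D) ∧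
      (IsZero D ↔ IsIso (biprod.lift π1 π2)) := by
  have hJ' := isTF1_extension hJ hGY a b w hex
  obtain ⟨eY, cY, tY, sY⟩ := hGY
  obtain ⟨e1, c1, t1, s1⟩ := hG1
  obtain ⟨e2, c2, t2, s2⟩ := hG2
  haveI := hex.mono_f
  haveI := hex.epi_g
  have cN : Coh.IsCoh (kernel πY) := H10Coh.isCoh_kernel _ hJ.1 cY.1
  have zY : ∀ η : X, η ∉ Y → Subsingleton (GY.presheaf.stalk η) := fun η h =>
    subsingleton_of_notMem (by rw [sY]; exact h)
  let c := a ≫ π1
  haveI : Mono c := mono_of_generic cY tY c fun η hη => by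
    by_cases hy : η ∈ Y
    · intro u v huv
      rw [stalkLin_comp, stalkLin_comp] at huv
      exact stalk_injective_of_mono a η ((bijective_at_generic hJ' hη π1 (s1 ▸ hy)).1 huv)
    · haveI := zY η hy
      exact Function.injective_of_subsingleton _
  have cD : Coh.IsCoh (cokernel c) := H10Coh.isCoh_cokernel c cY.1 c1
  have bN : ∀ η ∈ genericPoints X, η ∈ Y → Subsingleton ((kernel πY).presheaf.stalk η) := fun η hη hy =>
    subsingleton_kernel_of_injective πY (bijective_at_generic hJ hη πY (sY ▸ hy)).1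
  refine ⟨cokernel c, cD, fun η hη hs => hs (subsingleton_of_forall_eq 0 fun q => ?_),
    fun B hB => hB.add (ShortComplex.mk c (cokernel.π c) (cokernel.condition c))
      { exact := ShortComplex.exact_cokernel c } cY c1 cD, ?_⟩
  · obtain ⟨v, rfl⟩ := surjStalk (cokernel.π c) η q
    by_cases hy : η ∈ Y
    · obtain ⟨j, rfl⟩ := (bijective_at_generic hJ' hη π1 (s1 ▸ hy)).2 v
      haveI := bN η hη hy
      obtain ⟨u, rfl⟩ := (stalk_exact _ hex η j).1 (Subsingleton.elim _ _)
      show stalkLin (cokernel.π c) η (stalkLin π1 η (stalkLin a η u)) = 0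
      rw [← stalkLin_comp π1, ← stalkLin_comp a, ← Category.assoc, cokernel.condition]
      exact stalkLin_zero _ _
    · haveI : Subsingleton (G1.presheaf.stalk η) := subsingleton_of_notMem (by rw [s1]; exact hy)
      rw [Subsingleton.elim v 0, map_zero]
  have ha2 : a ≫ π2 = 0 := eq_zero_of_generic c2 t2 _ fun η hη v => by
    by_cases hy : η ∈ Y
    · haveI : Subsingleton (G2.presheaf.stalk η) := subsingleton_of_notMem (by
        rw [s2]; exact fun h => (hY' η hη).1 h hy)
      exact Subsingleton.elim _ _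
    · haveI := zY η hy
      rw [Subsingleton.elim v 0, map_zero]
  let h : kernel πY ⟶ G2 := hex.exact.desc π2 ha2
  have hh : b ≫ h = π2 := hex.exact.g_desc _ _
  haveI : Epi h := by
    haveI : Epi (b ≫ h) := hh.symm ▸ e2
    exact epi_of_epi b h
  haveI : Mono h := mono_of_generic cN (isTorsionFree_of_mono' (kernel.ι πY) hJ.2.1) h fun η hη => by
    by_cases hy : η ∈ Y
    · haveI := bN η hη hy
      exact Function.injective_of_subsingleton _
    · rw [injective_iff_map_eq_zero]
      intro m hm
      obtain ⟨j, rfl⟩ := surjStalk b η m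
      rw [← stalkLin_comp, hh] at hm
      rw [(bijective_at_generic hJ' hη π2 (s2 ▸ (hY' η hη).2 hy)).1 (hm.trans (map_zero _).symm), map_zero]
  haveI : IsIso h := isIso_of_mono_of_epi h
  constructor
  · intro hz
    haveI : Epi c := Preadditive.epi_of_cokernel_zero (hz.eq_of_tgt _ _)
    haveI : Mono (biprod.lift π1 π2) := mono_of_generic hJ'.1 hJ'.2.1 _ fun η hη u v huv => by
      by_cases hy : η ∈ Y
      · refine (bijective_at_generic hJ' hη π1 (s1 ▸ hy)).1 ?_
        rw [← biprod.lift_fst π1 π2, stalkLin_comp, stalkLin_comp, huv]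
      · refine (bijective_at_generic hJ' hη π2 (s2 ▸ (hY' η hη).2 hy)).1 ?_
        rw [← biprod.lift_snd π1 π2, stalkLin_comp, stalkLin_comp, huv]
    haveI : Epi (biprod.lift π1 π2) := Preadditive.epi_of_cancel_zero _ fun {Q} φ hφ => by
      rw [biprod.lift_eq, Preadditive.add_comp, Category.assoc, Category.assoc] at hφ
      have h1 : c ≫ biprod.inl ≫ φ = 0 := by
        have := congrArg (a ≫ ·) hφ
        simp only [Preadditive.comp_add, comp_zero, ← Category.assoc a π2, ha2, zero_comp, add_zero] at this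
        simpa only [c, Category.assoc] using this
      have h1' : biprod.inl ≫ φ = 0 := by rw [← cancel_epi c, comp_zero, h1]
      rw [h1', comp_zero, zero_add] at hφ
      have h2' : biprod.inr ≫ φ = 0 := by haveI := e2; rw [← cancel_epi π2, comp_zero, hφ]
      refine biprod.hom_ext' _ _ ?_ ?_
      · rw [comp_zero, h1']
      · rw [comp_zero, h2']
    exact isIso_of_mono_of_epi _
  · intro hiso
    haveI : Epi c := Preadditive.epi_of_cancel_zero _ fun {Q} φ hφ => by
      obtain ⟨ψ, hψ⟩ : ∃ ψ, b ≫ ψ = π1 ≫ φ := ⟨hex.exact.desc (π1 ≫ φ) (by rw [← Category.assoc]; exact hφ),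
        hex.exact.g_desc _ _⟩
      have heq : biprod.fst ≫ φ = biprod.snd ≫ inv h ≫ ψ := by
        rw [← cancel_epi (biprod.lift π1 π2), biprod.lift_fst_assoc, biprod.lift_snd_assoc, ← hψ, ← hh,
          Category.assoc, IsIso.hom_inv_id_assoc]
      have := congrArg (biprod.inl ≫ ·) heq
      simp only [biprod.inl_fst_assoc, biprod.inl_snd_assoc, zero_comp] at this
      exact this
    exact (IsZero.iff_id_eq_zero _).2 ((cancel_epi (cokernel.π c)).1
      (by rw [cokernel.π_of_epi, zero_comp, zero_comp]))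

end Groth.Agent.H26TF1
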