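import Groth.Prelude.Def_TFOne
import Groth.Agent.H25Tors.Generic
import Groth.Agent.H17.GenericStalk
import Groth.Agent.H17.KoszTwist.Stalk
import Groth.Agent.H25Par.FibKer
import Groth.Agent.H4TopDual.Vanish
import Mathlib

/-!
# Torsion-free rank one sheaves on reduced curves: maps are determined at the generic points
-/

set_option autoImplicit false

universe u

open CategoryTheory CategoryTheory.Limits AlgebraicGeometry TopologicalSpace

namespace Groth.Agent.H26TF1

open Groth.Agent.H06Mod Groth.Agent.H29Omega Groth.Agent.H17.KoszTwist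

variable {X : Scheme.{u}} [IsReduced X] {M G G' F : X.Modules}

theorem isField_generic {η : X} (hη : η ∈ genericPoints X) : IsField (X.presheaf.stalk η) :=
  H17.isField_stalk_generic X hη inferInstance

/-- A morphism to a torsion-free module which vanishes at the generic points is zero. -/
theorem eq_zero_of_generic [IsLocallyNoetherian X] (hG : Coh.IsCoh G) (htG : TorSh.IsTorsionFree G)
    (φ : F ⟶ G) (h : ∀ η ∈ genericPoints X, ∀ a, stalkLin φ η a = 0) : φ = 0 := by
  refine eq_zero_of_stalkLin _ fun x a => ?_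
  obtain ⟨U, hU, s, rfl⟩ := F.presheaf.exists_germ_eq a
  rw [stalkLin_germ]
  have : φ.app U s = 0 := H25Tors.eq_zero_of_forall_generic G hG.1 htG U _ fun η hη hηU => by
    rw [← stalkLin_germ]
    exact h η hη _
  rw [this, map_zero]

theorem mem_support_iff (x : X) : x ∈ CohB1.support G ↔ Nontrivial (G.presheaf.stalk x) :=
  not_subsingleton_iff_nontrivial

theorem subsingleton_of_notMem {x : X} (h : x ∉ CohB1.support G) : Subsingleton (G.presheaf.stalk x) :=
  not_not.1 h

theorem injective_at_generic (hM : TFOne.IsTF1 X M) {η : X} (hη : η ∈ genericPoints X) (φ : M ⟶ G)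
    (hne : ∃ a, stalkLin φ η a ≠ 0) : Function.Injective (stalkLin φ η) := by
  obtain ⟨e⟩ := hM.2.2 η hη
  obtain ⟨a, ha⟩ := hne
  letI := (isField_generic hη).toField
  rw [injective_iff_map_eq_zero]
  intro b hb
  by_contra hb0
  have hb1 : e b ≠ 0 := fun h => hb0 (e.injective (h.trans (map_zero e).symm))
  obtain ⟨c, hc⟩ : ∃ c : X.presheaf.stalk η, c * e b = e a := ⟨e a * (e b)⁻¹, by field_simp⟩
  refine ha ?_
  have : a = c • b := e.injective (by rw [map_smul]; exact hc.symm)
  rw [this, map_smul, hb, smul_zero]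

theorem bijective_at_generic (hM : TFOne.IsTF1 X M) {η : X} (hη : η ∈ genericPoints X) (π : M ⟶ G) [Epi π]
    (hsupp : η ∈ CohB1.support G) : Function.Bijective (stalkLin π η) := by
  haveI := (mem_support_iff η).1 hsupp
  obtain ⟨b, hb⟩ := exists_ne (0 : G.presheaf.stalk η)
  obtain ⟨a, rfl⟩ := surjective_stalk_of_epi π η b
  exact ⟨injective_at_generic hM hη π ⟨a, hb⟩, surjective_stalk_of_epi π η⟩

/-- A morphism to a torsion-free module supported inside the support of a quotient factors through the
quotient. -/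
theorem exists_desc [IsLocallyNoetherian X] (hM : TFOne.IsTF1 X M) (π : M ⟶ G) [Epi π]
    (hG' : Coh.IsCoh G') (htG' : TorSh.IsTorsionFree G') (φ : M ⟶ G')
    (h : ∀ η ∈ genericPoints X, η ∉ CohB1.support G → ∀ a, stalkLin φ η a = 0) : ∃ ψ : G ⟶ G', π ≫ ψ = φ := by
  refine ⟨Abelian.epiDesc π φ (eq_zero_of_generic hG' htG' _ fun η hη a => ?_), Abelian.comp_epiDesc π φ _⟩
  rw [stalkLin_comp]
  by_cases hs : η ∈ CohB1.support G
  · have : stalkLin (kernel.ι π) η a = 0 := (bijective_at_generic hM hη π hs).1 (by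
      rw [map_zero, ← stalkLin_comp, kernel.condition]; exact stalkLin_zero _ _)
    rw [this, map_zero]
  · exact h η hη hs _

/-- The same, with the condition stated on supports. -/
theorem exists_desc_of_support [IsLocallyNoetherian X] (hM : TFOne.IsTF1 X M) (π : M ⟶ G) [Epi π]
    (hG' : Coh.IsCoh G') (htG' : TorSh.IsTorsionFree G') (φ : M ⟶ G')
    (hs : CohB1.support G' ⊆ CohB1.support G) : ∃ ψ : G ⟶ G', π ≫ ψ = φ :=
  exists_desc hM π hG' htG' φ fun _ _ hn _ =>
    (subsingleton_of_notMem fun h => hn (hs h)).elim _ _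

omit [IsReduced X] in
theorem finite_of_isClosed_of_forall_notMem [IsNoetherian X] (hdim : topologicalKrullDim X ≤ 1) {S : Set X}
    (hS : IsClosed S) (hg : ∀ η ∈ genericPoints X, η ∉ S) : S.Finite ∧ ∀ z ∈ S, IsClosed ({z} : Set X) := by
  haveI : QuasiSober S := hS.isClosedEmbedding_subtypeVal.quasiSober
  haveI : CompactSpace S := isCompact_iff_compactSpace.mp hS.isCompact
  haveI : NoetherianSpace S := Topology.IsInducing.subtypeVal.noetherianSpace
  have hd := H25Euler.dim_lt_of_forall_ne S hS (fun y _ => by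
      obtain ⟨η, hη, hηy⟩ := H8Props.exists_genericPoints_specializes y
      exact ⟨η, hηy, hg η hη⟩)
    (d := 1) (lt_of_le_of_lt hdim (by norm_num))
  have hd0 : topologicalKrullDim S ≤ 0 := by
    generalize topologicalKrullDim S = D at hd
    induction D using WithBot.recBotCoe with
    | bot => exact bot_le
    | coe a =>
      induction a using ENat.recTopCoe with
      | top => exact absurd hd (by simp)
      | coe a =>
        have : a < 1 := by exact_mod_cast hd
        obtain rfl : a = 0 := by omega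
        exact le_rfl
  haveI := (H28Top.finite_discrete_of_dim_le_zero hd0).1
  refine ⟨Set.toFinite S, fun z hz => ?_⟩
  have h1 := H28Top.isClosed_singleton_of_dim_le_zero hd0 (⟨z, hz⟩ : S)
  simpa using (hS.isClosedEmbedding_subtypeVal.isClosed_iff_image_isClosed).1 h1

omit [IsReduced X] in
theorem dim_le_one (hpure : ∀ C ∈ irreducibleComponents (X : Type u), topologicalKrullDim C = 1) :
    topologicalKrullDim X ≤ 1 :=
  H4TopDual.topologicalKrullDim_le_of_components fun T hT => (hpure T hT).le

omit [IsReduced X] in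
/-- A generic point of the union lies in the closure of its component. -/
theorem component_of_generic {η : X} (hη : η ∈ genericPoints X) :
    closure ({η} : Set X) ∈ irreducibleComponents (X : Type u) := hη

omit [IsReduced X] in
theorem generic_mem_sUnion_iff {η : X} (hη : η ∈ genericPoints X) {Y Z W : Set X} (hY : IsClosed Y)
    (hZ : IsClosed Z) (hW : W = ⋃₀ {C | C ∈ irreducibleComponents (X : Type u) ∧ C ⊆ Y ∩ Z}) :
    η ∈ W ↔ η ∈ Y ∧ η ∈ Z := by
  subst hW
  constructor
  · rintro ⟨C, ⟨-, hC⟩, h⟩; exact hC h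
  · intro h
    exact ⟨closure {η}, ⟨component_of_generic hη,
      closure_minimal (Set.singleton_subset_iff.2 h) (hY.inter hZ)⟩, subset_closure rfl⟩

omit [IsReduced X]

theorem stalkLin_add (φ ψ : F ⟶ G) (x : X) (v : F.presheaf.stalk x) :
    stalkLin (φ + ψ) x v = stalkLin φ x v + stalkLin ψ x v := by
  obtain ⟨U, hx, s, rfl⟩ := F.presheaf.exists_germ_eq v
  rw [stalkLin_germ, stalkLin_germ, stalkLin_germ, ← map_add]
  rfl

theorem stalkLin_sub (φ ψ : F ⟶ G) (x : X) (v : F.presheaf.stalk x) :
    stalkLin (φ - ψ) x v = stalkLin φ x v - stalkLin ψ x v :=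
  eq_sub_of_add_eq ((stalkLin_add _ _ x v).symm.trans (by rw [sub_add_cancel]))

section scalars

variable {k : Type u} [Field k] [X.Over (Spec (CommRingCat.of k))]

/-- The constants in a local ring. -/
noncomputable def scalStalk (x : X) : k →+* X.presheaf.stalk x :=
  (X.presheaf.germ ⊤ x trivial).hom.comp (Coh.toGlobal (X ↘ Spec (CommRingCat.of k)))

theorem smulMod_comp (φ : F ⟶ G) (c : k) : Formal.smulMod k F c ≫ φ = φ ≫ Formal.smulMod k G c :=
  Scheme.Modules.hom_ext _ _ fun U => by
    ext m
    exact Scheme.Modules.Hom.app_smul φ _ m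

theorem stalkLin_smulMod (c : k) (x : X) (v : F.presheaf.stalk x) :
    stalkLin (Formal.smulMod k F c) x v = scalStalk (k := k) x c • v := by
  obtain ⟨U, hx, s, rfl⟩ := F.presheaf.exists_germ_eq v
  rw [stalkLin_germ]
  refine (Groth.Agent.H06Mod.germ_smul F U hx _ s).trans ?_
  congr 1
  exact X.presheaf.germ_res_apply _ _ _ _

theorem smulMod_eq_iff_of_nontrivial {x : X} [Nontrivial (F.presheaf.stalk x)] {c c' : k}
    (h : ∀ v : F.presheaf.stalk x, stalkLin (Formal.smulMod k F c - Formal.smulMod k F c') x v = 0) : c = c' := by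
  by_contra hne
  obtain ⟨v, hv⟩ := exists_ne (0 : F.presheaf.stalk x)
  have h1 := h v
  rw [stalkLin_sub, stalkLin_smulMod, stalkLin_smulMod, ← sub_smul, ← map_sub] at h1
  exact hv ((((sub_ne_zero.2 hne).isUnit).map (scalStalk (k := k) x)).smul_eq_zero.1 h1)

/-- A monomorphism with cokernel of finite support does not decrease the Euler characteristic. -/
theorem euler_le_of_finite_coker [IsProper (X ↘ Spec (CommRingCat.of k))] {E : X.Modules} (hFc : Coh.IsCoh F)
    (hEc : Coh.IsCoh E) (i : F ⟶ E) [Mono i] (hC : Coh.IsCoh (cokernel i))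
    (hfin : (CohB1.support (cokernel i)).Finite)
    (hcl : ∀ z ∈ CohB1.support (cokernel i), IsClosed ({z} : Set X)) :
    Curv2.euler k X F ≤ Curv2.euler k X E := by
  have hadd := H25Euler.euler_add (k := k) (S := ShortComplex.mk i (cokernel.π i) (cokernel.condition _))
    { exact := ShortComplex.exact_cokernel _ } hFc hEc hC
  dsimp only at hadd
  have hv : ∀ p, 1 ≤ p → Subsingleton (Coh.HH X (cokernel i) p) := fun p hp =>
    H25Par.subsingleton_HH_of_finite_support _ hfin hcl (fun y hy => not_not.1 hy) hp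
  rw [H25Euler.euler_eq_sum (cokernel i) 1 hv, Finset.sum_range_one, pow_zero, one_mul] at hadd
  omega

end scalars

end Groth.Agent.H26TF1
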