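import Mathlib
import Groth.Prelude.Def_Coh
import Groth.Agent.H8Props.Generic

/-!
# The base field is algebraically closed in the function field of a geometrically integral scheme
-/

set_option autoImplicit false

universe u

open CategoryTheory CategoryTheory.Limits AlgebraicGeometry TopologicalSpace TensorProduct

namespace Groth.Agent.H26TF1

section alg

variable {k : Type u} [Field k] (A F : Type u) [CommRing A] [IsDomain A] [Algebra k A] [Field F] [Algebra A F]
  [IsFractionRing A F] [Algebra k F] [IsScalarTower k A F]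

theorem isDomain_tensor_fractionRing (L : Type u) [Field L] [Algebra k L] [IsDomain (A ⊗[k] L)] :
    IsDomain (F ⊗[k] L) := by
  let j : A ⊗[k] L →ₐ[k] F ⊗[k] L :=
    Algebra.TensorProduct.map (IsScalarTower.toAlgHom k A F) (AlgHom.id k L)
  have hj : Function.Injective j := by
    change Function.Injective ((IsScalarTower.toAlgHom k A F).toLinearMap.rTensor L)
    exact Module.Flat.rTensor_preserves_injective_linearMap _ (IsFractionRing.injective A F)
  have hd : ∀ t : F ⊗[k] L, ∃ s : A, s ≠ 0 ∧ ∃ w, j w = (algebraMap A F s) ⊗ₜ[k] (1 : L) * t := by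
    intro t
    induction t using TensorProduct.induction_on with
    | zero => exact ⟨1, one_ne_zero, 0, by rw [map_zero, mul_zero]⟩
    | tmul x l =>
      obtain ⟨r, s, hs, rfl⟩ := IsFractionRing.div_surjective A x
      refine ⟨s, nonZeroDivisors.ne_zero hs, r ⊗ₜ l, ?_⟩
      have hs' : algebraMap A F s ≠ 0 :=
        (map_ne_zero_iff _ (IsFractionRing.injective A F)).2 (nonZeroDivisors.ne_zero hs)
      rw [Algebra.TensorProduct.tmul_mul_tmul, one_mul, mul_div_cancel₀ _ hs']
      rfl
    | add t t' ht ht' =>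
      obtain ⟨s, hs, w, hw⟩ := ht
      obtain ⟨s', hs', w', hw'⟩ := ht'
      refine ⟨s * s', mul_ne_zero hs hs', (s' ⊗ₜ 1) * w + (s ⊗ₜ 1) * w', ?_⟩
      rw [map_add, map_mul, map_mul, hw, hw', map_mul (algebraMap A F)]
      have e : ∀ a : A, j (a ⊗ₜ 1) = algebraMap A F a ⊗ₜ[k] (1 : L) := fun a => rfl
      have e' : (algebraMap A F s * algebraMap A F s') ⊗ₜ[k] (1 : L) =
          algebraMap A F s ⊗ₜ[k] (1 : L) * algebraMap A F s' ⊗ₜ[k] (1 : L) := by
        rw [Algebra.TensorProduct.tmul_mul_tmul, one_mul]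
      rw [e, e, e']
      ring
  haveI : Nontrivial (F ⊗[k] L) := hj.nontrivial
  haveI : NoZeroDivisors (F ⊗[k] L) := ⟨fun {x y} hxy => by
    obtain ⟨s, hs, w, hw⟩ := hd x
    obtain ⟨s', hs', w', hw'⟩ := hd y
    have hu : ∀ a : A, a ≠ 0 → IsUnit (algebraMap A F a ⊗ₜ[k] (1 : L)) := fun a ha =>
      (IsUnit.mk0 _ ((map_ne_zero_iff _ (IsFractionRing.injective A F)).2 ha)).map
        (Algebra.TensorProduct.includeLeft : F →ₐ[k] F ⊗[k] L)
    have h0 : w * w' = 0 := hj (by
      rw [map_mul, hw, hw', map_zero, mul_mul_mul_comm, hxy, mul_zero])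
    rcases mul_eq_zero.1 h0 with h | h
    · left
      rw [h, map_zero] at hw
      exact (hu s hs).mul_right_eq_zero.1 hw.symm
    · right
      rw [h, map_zero] at hw'
      exact (hu s' hs').mul_right_eq_zero.1 hw'.symm⟩
  exact NoZeroDivisors.to_isDomain _

theorem mem_range_of_forall_isDomain
    (h : ∀ (L : Type u) [Field L] [Algebra k L], Module.Finite k L → IsDomain (A ⊗[k] L)) (a : F)
    (ha : IsIntegral k a) : ∃ c : k, algebraMap k F c = a := by
  let L := ↥(IntermediateField.adjoin k ({a} : Set F))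
  haveI : Module.Finite k L := IntermediateField.adjoin.finiteDimensional ha
  haveI := h L inferInstance
  haveI := isDomain_tensor_fractionRing A F L (k := k)
  haveI : Algebra.IsIntegral F (F ⊗[k] L) := Algebra.IsIntegral.of_finite _ _
  have hF : IsField (F ⊗[k] L) := isField_of_isIntegral_of_isField' (R := F) (S := F ⊗[k] L) (Field.toIsField F)
  let ψ : F ⊗[k] L →ₐ[F] F :=
    Algebra.TensorProduct.lift (AlgHom.id F F) (IntermediateField.val _) fun _ _ => Commute.all _ _
  have hψ : Function.Injective ψ := by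
    rw [injective_iff_map_eq_zero]
    intro x hx
    by_contra hne
    obtain ⟨y, hy⟩ := hF.mul_inv_cancel hne
    have := congrArg ψ hy
    have h1' : ψ 1 = 1 := ψ.toRingHom.map_one
    rw [show ψ (x * y) = ψ x * ψ y from ψ.toRingHom.map_mul x y, hx, zero_mul, h1'] at this
    exact zero_ne_one this
  have h1 : Module.finrank F (F ⊗[k] L) ≤ Module.finrank F F :=
    LinearMap.finrank_le_finrank_of_injective (f := ψ.toLinearMap) hψ
  rw [Module.finrank_baseChange, Module.finrank_self] at h1
  have h2 : Module.finrank k L = 1 := le_antisymm h1 Module.finrank_pos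
  obtain ⟨c, hc⟩ := IntermediateField.mem_bot.1
    (IntermediateField.adjoin_simple_eq_bot_iff.1 (IntermediateField.finrank_eq_one_iff.1 h2))
  exact ⟨c, hc⟩

end alg

section geom

variable {k : Type u} [Field k] {Y : Scheme.{u}} (f : Y ⟶ Spec (CommRingCat.of k)) [GeometricallyIntegral f]

/-- An element of the local ring at the generic point which is integral over the base field is constant. -/
theorem eq_const_of_isIntegralElem [IsIntegral Y] {z : Y} (hz : z ∈ genericPoints Y) (a : Y.presheaf.stalk z)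
    (ha : ((Y.presheaf.germ ⊤ z trivial).hom.comp (Coh.toGlobal f)).IsIntegralElem a) :
    ∃ c : k, (Y.presheaf.germ ⊤ z trivial).hom (Coh.toGlobal f c) = a := by
  obtain rfl : genericPoint Y = z := H8Props.mem_genericPoints_iff.1 hz _ (genericPoint_specializes z)
  obtain ⟨U, hU, hηU, -⟩ := exists_isAffineOpen_mem_and_subset (X := Y) (x := genericPoint Y) (U := ⊤) trivial
  haveI : Nonempty U.toScheme := ⟨⟨genericPoint Y, hηU⟩⟩
  haveI : IsFractionRing Γ(Y, U) Y.functionField := functionField_isFractionRing_of_isAffineOpen Y U hU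
  let ρ : k →+* Γ(Y, U) := (Y.presheaf.map (homOfLE (le_top : U ≤ ⊤)).op).hom.comp (Coh.toGlobal f)
  letI : Algebra k Γ(Y, U) := ρ.toAlgebra
  letI : Algebra k Y.functionField := ((algebraMap Γ(Y, U) Y.functionField).comp ρ).toAlgebra
  haveI : IsScalarTower k Γ(Y, U) Y.functionField := IsScalarTower.of_algebraMap_eq fun _ => rfl
  have hcomp : ∀ c, (Y.presheaf.germ ⊤ (genericPoint Y) trivial).hom (Coh.toGlobal f c) =
      algebraMap k Y.functionField c := fun c =>
    (Y.presheaf.germ_res_apply (homOfLE (le_top : U ≤ ⊤)) (genericPoint Y) hηU _).symm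
  have hfac : hU.fromSpec ≫ f = Spec.map (CommRingCat.ofHom (algebraMap k Γ(Y, U))) := by
    rw [← IsAffineOpen.SpecMap_appLE_fromSpec f (isAffineOpen_top _) hU le_top,
      IsAffineOpen.fromSpec_top, Scheme.isoSpec_Spec_inv, ← Spec.map_comp]
    rfl
  have hdom : ∀ (L : Type u) [Field L] [Algebra k L], Module.Finite k L → IsDomain (Γ(Y, U) ⊗[k] L) := by
    intro L _ _ _
    let t := Spec.map (CommRingCat.ofHom (algebraMap k L))
    haveI : IsIntegral (pullback f t) :=
      GeometricallyIntegral.geometrically_isIntegral _ _ _ (IsPullback.of_hasPullback f t)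
    let j : Spec (CommRingCat.of (Γ(Y, U) ⊗[k] L)) ⟶ pullback f t :=
      (pullbackSpecIso k Γ(Y, U) L).inv ≫
        Limits.pullback.map _ _ _ _ hU.fromSpec (𝟙 _) (𝟙 _) (by rw [Category.comp_id, hfac]) (by simp [t])
    haveI : IsOpenImmersion j := by dsimp [j]; infer_instance
    haveI : Nontrivial (Γ(Y, U) ⊗[k] L) :=
      (Algebra.TensorProduct.includeLeft_injective (R := k) (S := k) (A := Γ(Y, U)) (B := L)
        (algebraMap k L).injective).nontrivial
    haveI : Nonempty ↥(Spec (CommRingCat.of (Γ(Y, U) ⊗[k] L))) :=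
      inferInstanceAs (Nonempty (PrimeSpectrum (Γ(Y, U) ⊗[k] L)))
    haveI := isIntegral_of_isOpenImmersion j
    exact (affine_isIntegral_iff (CommRingCat.of (Γ(Y, U) ⊗[k] L))).1 inferInstance
  have ha' : IsIntegral k (a : Y.functionField) := by
    have e : (Y.presheaf.germ ⊤ (genericPoint Y) trivial).hom.comp (Coh.toGlobal f) =
        algebraMap k Y.functionField := RingHom.ext hcomp
    rw [e] at ha
    exact ha
  obtain ⟨c, hc⟩ := mem_range_of_forall_isDomain (k := k) Γ(Y, U) Y.functionField hdom a ha'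
  exact ⟨c, (hcomp c).trans hc⟩

end geom

end Groth.Agent.H26TF1
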