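import Groth.Agent.H26TF1.Basic
import Groth.Agent.H29RR.Common
import Groth.Agent.LeadDev.Basic
import Mathlib

/-!
# Existence of the torsion-free quotient on a union of components
-/

set_option autoImplicit false

universe u

open CategoryTheory CategoryTheory.Limits AlgebraicGeometry TopologicalSpace

namespace Groth.Agent.H26TF1

open Groth.Agent.H06Mod Groth.Agent.H29Omega Groth.Agent.H17.KoszTwist

variable {X : Scheme.{u}}

/-- A closed set in which every point is a specialisation of a generic point of `X` lying in it. -/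
def IsCompUnion (T : Set X) : Prop :=
  IsClosed T ∧ ∀ x ∈ T, ∃ η ∈ genericPoints X, η ∈ T ∧ η ⤳ x

/-- Sections are determined by their germs at the generic points. -/
def IsDet (G : X.Modules) : Prop :=
  ∀ (U : X.Opens) (s : Γ(G, U)), (∀ η ∈ genericPoints X, ∀ hη : η ∈ U, G.presheaf.germ U η hη s = 0) → s = 0

theorem finite_genericPoints [IsNoetherian X] : (genericPoints X).Finite :=
  Set.Finite.of_finite_image (f := fun η => closure ({η} : Set X))
    (NoetherianSpace.finite_irreducibleComponents.subset (by rintro _ ⟨η, hη, rfl⟩; exact hη))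
    fun a _ b _ (hab : closure ({a} : Set X) = closure {b}) =>
      ((specializes_iff_closure_subset.2 hab.ge).antisymm (specializes_iff_closure_subset.2 hab.le)).eq

/-- The open set of the generalising generic points of `S`. -/
theorem isOpen_compl_closures [IsNoetherian X] (S : Set X) (hS : S ⊆ genericPoints X) :
    IsOpen (⋃ η ∈ S, closure ({η} : Set X))ᶜ :=
  ((finite_genericPoints.subset hS).isClosed_biUnion fun _ _ => isClosed_closure).isOpen_compl

/-- A regular element of a local ring stays nonzero at the generic points through it. -/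
theorem germ_ne_zero_of_isRegular [IsReduced X] {W : X.Opens} (hW : IsAffineOpen W) {x η : X} (hxW : x ∈ W)
    (hη : η ∈ genericPoints X) (hs : η ⤳ x) (t : Γ(X, W))
    (hr : IsRegular (X.presheaf.germ W x hxW t)) :
    IsUnit (X.presheaf.germ W η (hs.mem_open W.2 hxW) t) := by
  letI := (isField_generic hη).toField
  have hηW : η ∈ W := hs.mem_open W.2 hxW
  refine IsUnit.mk0 _ fun h0 => ?_
  let p := hW.primeIdealOf ⟨η, hηW⟩
  let q := hW.primeIdealOf ⟨x, hxW⟩
  have hle : p.asIdeal ≤ q.asIdeal := by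
    refine (PrimeSpectrum.le_iff_specializes p q).2 (hW.fromSpec.isOpenEmbedding.isInducing.specializes_iff.1 ?_)
    rwa [hW.fromSpec_primeIdealOf, hW.fromSpec_primeIdealOf]
  letI := TopCat.Presheaf.algebra_section_stalk X.presheaf ⟨η, hηW⟩
  haveI := hW.isLocalization_stalk ⟨η, hηW⟩
  obtain ⟨⟨c, hc⟩, hct⟩ := (IsLocalization.map_eq_zero_iff p.asIdeal.primeCompl (X.presheaf.stalk η) t).1 h0
  letI := TopCat.Presheaf.algebra_section_stalk X.presheaf ⟨x, hxW⟩
  haveI := hW.isLocalization_stalk ⟨x, hxW⟩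
  have h6 : X.presheaf.germ W x hxW c = 0 := hr.right (by
    show X.presheaf.germ W x hxW c * X.presheaf.germ W x hxW t = 0 * _
    rw [zero_mul, ← map_mul, hct, map_zero])
  obtain ⟨⟨d, hd⟩, hdc⟩ := (IsLocalization.map_eq_zero_iff q.asIdeal.primeCompl (X.presheaf.stalk x) c).1 h6
  rcases p.isPrime.mem_or_mem (show d * c ∈ p.asIdeal by rw [hdc]; exact p.asIdeal.zero_mem) with h | h
  exacts [hd (hle h), hc h]

theorem isTorsionFree_of_isDet [IsNoetherian X] [IsReduced X] (G : X.Modules) (hG : IsDet G) :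
    TorSh.IsTorsionFree G := by
  intro x
  refine ⟨fun {r} hr v w hvw => ?_⟩
  rw [← sub_eq_zero]
  have h0 : r • (v - w) = 0 := by rw [smul_sub]; exact sub_eq_zero.2 hvw
  generalize v - w = z at h0 ⊢
  obtain ⟨U, hU, r', z', rfl, rfl⟩ := exists_germ_pair G x r z
  rw [← germ_smul, ← map_zero (G.presheaf.germ U x hU).hom] at h0
  obtain ⟨W₀, hxW₀, i₁, i₂, heq⟩ := G.presheaf.germ_eq x hU hU _ 0 h0
  rw [map_zero] at heq
  let bad : Set X := {η | η ∈ genericPoints X ∧ ¬ η ⤳ x}
  let O : X.Opens := ⟨_, isOpen_compl_closures bad fun η h => h.1⟩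
  have hxO : x ∈ O := by
    show x ∉ ⋃ η ∈ bad, closure ({η} : Set X)
    simp only [Set.mem_iUnion₂, not_exists]
    exact fun η hη hc => hη.2 (specializes_iff_mem_closure.2 hc)
  obtain ⟨W, hW, hxW, hWW₀⟩ :=
    exists_isAffineOpen_mem_and_subset (X := X) (x := x) (U := W₀ ⊓ O) ⟨hxW₀, hxO⟩
  have hWU : W ≤ U := fun y hy => i₁.le (hWW₀ hy).1
  suffices G.presheaf.map (homOfLE hWU).op z' = 0 by
    rw [← TopCat.Presheaf.germ_res_apply G.presheaf (homOfLE hWU) x hxW z', this, map_zero]
  refine hG W _ fun η hη hηW => ?_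
  have hs : η ⤳ x := by
    by_contra hns
    exact (hWW₀ hηW).2 (Set.mem_biUnion (show η ∈ bad from ⟨hη, hns⟩) (subset_closure rfl))
  rw [TopCat.Presheaf.germ_res_apply]
  have h2 : X.presheaf.germ U η (hWU hηW) r' • G.presheaf.germ U η (hWU hηW) z' = 0 := by
    rw [← germ_smul, ← TopCat.Presheaf.germ_res_apply G.presheaf i₁ η (hWW₀ hηW).1 (r' • z'), heq, map_zero]
  refine (IsUnit.smul_eq_zero ?_).1 h2
  have h3 := germ_ne_zero_of_isRegular hW hxW hη hs (X.presheaf.map (homOfLE hWU).op r') (by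
    rw [TopCat.Presheaf.germ_res_apply]; exact hr)
  rwa [TopCat.Presheaf.germ_res_apply] at h3

theorem isDet_of_isTorsionFree [IsLocallyNoetherian X] [IsReduced X] {G : X.Modules} (hG : Coh.IsCoh G)
    (ht : TorSh.IsTorsionFree G) : IsDet G := fun U s h =>
  H25Tors.eq_zero_of_forall_generic G hG.1 ht U s h

theorem isDet_of_mono {G H : X.Modules} (m : G ⟶ H) [Mono m] (hH : IsDet H) : IsDet G := fun U s h => by
  refine TopCat.Presheaf.section_ext ⟨G.presheaf, G.isSheaf⟩ U s 0 fun y hy => ?_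
  show G.presheaf.germ U y hy s = G.presheaf.germ U y hy 0
  rw [map_zero]
  refine stalk_injective_of_mono m y ?_
  rw [map_zero, stalkLin_germ, hH U (m.app U s) fun η hη hηU => ?_, map_zero]
  rw [← stalkLin_germ, h η hη hηU, map_zero]

theorem isDet_pushforward_restrict (F : X.Modules) (hF : IsDet F) (U : X.Opens) :
    IsDet ((Scheme.Modules.pushforward U.ι).obj (F.restrict U.ι)) := fun W s h => by
  refine hF (U.ι ''ᵁ (U.ι ⁻¹ᵁ W)) s fun η hη hηW => ?_
  have hηW' : η ∈ W := U.ι.image_preimage_le W hηW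
  have h1 := h η hη hηW'
  rw [← map_zero (((Scheme.Modules.pushforward U.ι).obj (F.restrict U.ι)).presheaf.germ W η hηW').hom] at h1
  obtain ⟨W', hηW'', i₁, i₂, heq⟩ :=
    ((Scheme.Modules.pushforward U.ι).obj (F.restrict U.ι)).presheaf.germ_eq η hηW' hηW' s 0 h1
  rw [map_zero] at heq
  have hle : U.ι ''ᵁ (U.ι ⁻¹ᵁ W') ≤ U.ι ''ᵁ (U.ι ⁻¹ᵁ W) := fun y ⟨z, hz, e⟩ => ⟨z, i₁.le hz, e⟩
  have hη' : η ∈ U.ι ''ᵁ (U.ι ⁻¹ᵁ W') := by
    obtain ⟨z, -, hz⟩ := hηW
    exact ⟨z, by show U.ι z ∈ W'; exact hz ▸ hηW'', hz⟩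
  rw [← TopCat.Presheaf.germ_res_apply F.presheaf (homOfLE hle) η hη' s]
  exact (congrArg (F.presheaf.germ _ η hη') heq).trans (map_zero _)

/-- **The torsion-free quotient on a union of components exists.** -/
theorem exists_isQuotOn [IsNoetherian X] [IsReduced X] {F : X.Modules} (hF : TFOne.IsTF1 X F) {T : Set X}
    (hT : IsCompUnion T) : ∃ (G : X.Modules) (π : F ⟶ G), TFOne.IsQuotOn X F T G π := by
  obtain ⟨hTc, hTg⟩ := hT
  let out : Set X := {η | η ∈ genericPoints X ∧ η ∉ T}
  let U : X.Opens := ⟨_, isOpen_compl_closures out fun η h => h.1⟩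
  have hUT : ∀ x ∈ U, x ∈ T := fun x hx => by
    obtain ⟨η, hη, hηx⟩ := H8Props.exists_genericPoints_specializes x
    by_contra hxT
    exact hx (Set.mem_biUnion (show η ∈ out from ⟨hη, fun h => hxT (hηx.mem_closed hTc h)⟩)
      (specializes_iff_mem_closure.1 hηx))
  have hgU : ∀ η ∈ genericPoints X, η ∈ T → η ∈ U := fun η hη hηT => by
    show η ∉ ⋃ η ∈ out, closure ({η} : Set X)
    simp only [Set.mem_iUnion₂, not_exists]
    intro ξ hξ hc
    exact hξ.2 (H8Props.mem_genericPoints_iff.1 hη ξ (specializes_iff_mem_closure.2 hc) ▸ hηT)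
  let u := (Scheme.Modules.restrictAdjunction U.ι).unit.app F
  have hH : IsDet ((Scheme.Modules.pushforward U.ι).obj (F.restrict U.ι)) :=
    isDet_pushforward_restrict F (isDet_of_isTorsionFree hF.1 hF.2.1) U
  haveI : (F : X.Modules).IsQuasicoherent := hF.1.1
  have hHq : Coh.IsQCoh ((Scheme.Modules.pushforward U.ι).obj (F.restrict U.ι)) :=
    LeadDev.isQCoh_push_open U.ι _ (LeadDev.isQCoh_restrict U.ι F hF.1.1)
  let G := Abelian.coimage u
  have hGc : Coh.IsCoh G :=
    H10Coh.isCoh_cokernel (kernel.ι u) (H10Coh.isCoh_kernel u hF.1 hHq).1 hF.1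
  haveI hm : Mono (Abelian.factorThruCoimage u) := inferInstance
  have hGd : IsDet G := isDet_of_mono (Abelian.factorThruCoimage u) hH
  haveI : Epi (Abelian.coimage.π u) := inferInstance
  refine ⟨G, Abelian.coimage.π u, inferInstance, hGc, isTorsionFree_of_isDet G hGd, ?_⟩
  have hgen : ∀ η ∈ genericPoints X, η ∈ T → η ∈ CohB1.support G := fun η hη hηT => by
    rw [mem_support_iff]
    obtain ⟨e⟩ := hF.2.2 η hη
    haveI : Nontrivial (F.presheaf.stalk η) := e.toEquiv.nontrivial
    haveI := H29RR.isIso_stalk_unit F U (hgU η hη hηT)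
    have hb : Function.Injective (stalkLin u η) :=
      (ConcreteCategory.bijective_of_isIso ((DerSch.stalkFunctor X η).map u)).1
    have hi : Function.Injective (fun a : F.presheaf.stalk η => stalkLin (Abelian.coimage.π u) η a) :=
      fun a b hab => hb (by
        show stalkLin u η a = stalkLin u η b
        rw [← Abelian.coimage.fac u, stalkLin_comp, stalkLin_comp]
        exact congrArg _ hab)
    exact hi.nontrivial
  refine Set.Subset.antisymm (fun x hx => ?_) fun x hx => ?_
  · by_contra hxT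
    refine hx (subsingleton_of_forall_eq 0 fun v => stalk_injective_of_mono (Abelian.factorThruCoimage u) x ?_)
    rw [map_zero]
    generalize stalkLin (Abelian.factorThruCoimage u) x v = w
    obtain ⟨W, hxW, s, rfl⟩ := ((Scheme.Modules.pushforward U.ι).obj (F.restrict U.ι)).presheaf.exists_germ_eq w
    let O : X.Opens := ⟨Tᶜ, hTc.isOpen_compl⟩
    refine (TopCat.Presheaf.germ_res_apply ((Scheme.Modules.pushforward U.ι).obj (F.restrict U.ι)).presheaf
      (homOfLE (inf_le_left : W ⊓ O ≤ W)) x ⟨hxW, hxT⟩ s).symm.trans ?_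
    refine (congrArg _ (hH (W ⊓ O)
      (((Scheme.Modules.pushforward U.ι).obj (F.restrict U.ι)).presheaf.map (homOfLE inf_le_left).op s)
      fun η hη hηW => ?_)).trans (map_zero _)
    obtain ⟨W', hW', t, ht⟩ := ((Scheme.Modules.pushforward U.ι).obj (F.restrict U.ι)).presheaf.exists_germ_eq
      (((Scheme.Modules.pushforward U.ι).obj (F.restrict U.ι)).presheaf.germ (W ⊓ O) η hηW
        (((Scheme.Modules.pushforward U.ι).obj (F.restrict U.ι)).presheaf.map (homOfLE inf_le_left).op s))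
    rw [← ht, ← TopCat.Presheaf.germ_res_apply _ (homOfLE (inf_le_left : W' ⊓ O ≤ W')) η ⟨hW', hηW.2⟩ t]
    refine (congrArg _ (?_ : _ = (0 : Γ((Scheme.Modules.pushforward U.ι).obj (F.restrict U.ι), W' ⊓ O)))).trans (map_zero _)
    refine TopCat.Presheaf.section_ext ⟨F.presheaf, F.isSheaf⟩ (U.ι ''ᵁ (U.ι ⁻¹ᵁ (W' ⊓ O))) _ _ fun y hy => ?_
    obtain ⟨z, hz, rfl⟩ := hy
    exact absurd (hUT _ z.2) hz.2
  · obtain ⟨η, hη, hηT, hηx⟩ := hTg x hx
    exact hηx.mem_closed (H10Coh.isClosed_support G hGc.2) (hgen η hη hηT)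

end Groth.Agent.H26TF1
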