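import Groth.Agent.H26TF1.Sub
import Groth.Agent.H26TF1.Quot
import Groth.Agent.H22Alg.DegBundle
import Groth.Agent.H28Int.Push
import Groth.Agent.H10Coh.ProjFormulaFLF
import Groth.Agent.H06EGA9.StructureStalk
import Groth.Agent.H26Gr.QuotBC
import Mathlib

/-!
# The function `r·χ + deg` on torsion-free quotients is the Euler characteristic of a twist
-/

set_option autoImplicit false
set_option linter.style.haveILetI false

universe u

open CategoryTheory CategoryTheory.Limits AlgebraicGeometry TopologicalSpace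

namespace Groth.Agent.H26TF1

open Groth.Agent.H06Mod Groth.Agent.H29Omega Groth.Agent.H17.KoszTwist

variable {X : Scheme.{u}}

theorem isTF1_structureModule [IsLocallyNoetherian X] [IsReduced X] : TFOne.IsTF1 X (Coh.structureModule X) := by
  refine ⟨H10Coh.isCoh_structureModule' X, fun x => ?_, fun η _ =>
    ⟨(LinearEquiv.ofBijective (LinearMap.toSpanSingleton (X.presheaf.stalk η) _ (H29Ref.oneStalk η))
      (H06EGA9.bijective_smul_oneStalk η)).symm⟩⟩
  exact Function.Injective.moduleIsTorsionFree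
    (LinearEquiv.ofBijective (LinearMap.toSpanSingleton (X.presheaf.stalk x) _ (H29Ref.oneStalk x))
      (H06EGA9.bijective_smul_oneStalk x)).symm (LinearEquiv.injective _) fun r v => map_smul _ r v

theorem isCompUnion_of_isSubcurve {Y : Set X} (hY : IsClosed Y) (h : VecSt.IsSubcurve X Y) : IsCompUnion Y := by
  obtain ⟨𝒮, h𝒮, -, rfl⟩ := h
  refine ⟨hY, fun x hx => ?_⟩
  obtain ⟨C, hC, hxC⟩ := hx
  obtain ⟨η, hη⟩ := QuasiSober.sober (h𝒮 hC).1 (isClosed_of_mem_irreducibleComponents C (h𝒮 hC))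
  exact ⟨η, show closure {η} ∈ irreducibleComponents X by rw [hη.def]; exact h𝒮 hC,
    Set.mem_sUnion_of_mem hη.mem hC, hη.specializes hxC⟩

theorem IsCompUnion.isSubcurve {T : Set X} (h : IsCompUnion T) (hne : T.Nonempty) : VecSt.IsSubcurve X T := by
  obtain ⟨hc, hg⟩ := h
  obtain ⟨x, hx⟩ := hne
  obtain ⟨η, hη, hηT, -⟩ := hg x hx
  refine ⟨(fun ξ => closure ({ξ} : Set X)) '' {ξ | ξ ∈ genericPoints X ∧ ξ ∈ T},
    by rintro _ ⟨ξ, hξ, rfl⟩; exact hξ.1, ⟨_, η, ⟨hη, hηT⟩, rfl⟩, Set.Subset.antisymm (fun y hy => ?_) ?_⟩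
  · obtain ⟨ξ, hξ, hξT, hξy⟩ := hg y hy
    exact Set.mem_sUnion.2 ⟨_, ⟨ξ, ⟨hξ, hξT⟩, rfl⟩, specializes_iff_mem_closure.1 hξy⟩
  · rintro y ⟨_, ⟨ξ, hξ, rfl⟩, hy⟩
    exact closure_minimal (Set.singleton_subset_iff.2 hξ.2) hc hy

theorem isCompUnion_sUnion [IsNoetherian X] (P : Set X → Prop) :
    IsCompUnion (⋃₀ {C | C ∈ irreducibleComponents (X : Type u) ∧ P C}) := by
  refine ⟨?_, ?_⟩
  · rw [Set.sUnion_eq_biUnion]
    exact (NoetherianSpace.finite_irreducibleComponents.subset fun C hC => hC.1).isClosed_biUnion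
      fun C hC => isClosed_of_mem_irreducibleComponents C hC.1
  · rintro x ⟨C, hC, hxC⟩
    obtain ⟨η, hη⟩ := QuasiSober.sober hC.1.1 (isClosed_of_mem_irreducibleComponents C hC.1)
    exact ⟨η, show closure {η} ∈ irreducibleComponents X by rw [hη.def]; exact hC.1,
      Set.mem_sUnion_of_mem hη.mem hC, hη.specializes hxC⟩

theorem isCompUnion_univ : IsCompUnion (Set.univ : Set X) :=
  ⟨isClosed_univ, fun x _ => (H8Props.exists_genericPoints_specializes x).imp fun η h =>
    ⟨h.1, trivial, h.2⟩⟩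

section field

variable {k : Type u} [Field k] [X.Over (Spec (CommRingCat.of k))] [IsProper (X ↘ Spec (CommRingCat.of k))]

/-- The Euler characteristic of the twist by `E`. -/
noncomputable def bE (k : Type u) [Field k] [X.Over (Spec (CommRingCat.of k))] (E F : X.Modules) : ℤ :=
  Curv2.euler k X (CohB1.tensorMod F E)

variable {E : X.Modules} {r : ℕ}

theorem bE_eq (F : X.Modules) :
    bE k E F = H22Alg.DegBundle.ψ k E r F + r * Curv2.euler k X F :=
  (sub_add_cancel _ _).symm

theorem isAddFn_euler : H28Int.IsAddFn (fun F : X.Modules => Curv2.euler k X F) where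
  congr a := H25Euler.euler_congr a
  add _ hS h₁ h₂ h₃ := H25Euler.euler_add hS h₁ h₂ h₃

theorem isAddFn_bE (hE : FlatMod.IsFinLocFreeOfRank r E) : H28Int.IsAddFn (fun F : X.Modules => bE k E F) where
  congr {A B} a := by
    simp only [bE_eq (r := r), (H22Alg.DegBundle.isAddFn_ψ k hE).congr a, H25Euler.euler_congr a]
  add S hS h₁ h₂ h₃ := by
    simp only [bE_eq (r := r), (H22Alg.DegBundle.isAddFn_ψ k hE).add S hS h₁ h₂ h₃,
      H25Euler.euler_add (k := k) hS h₁ h₂ h₃]
    ring

variable [IsReduced X]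

/-- Two coherent modules with the same lengths at the generic points have the same twist defect. -/
theorem ψ_congr_generic [IsNoetherian X] (hdim : topologicalKrullDim X ≤ 1) (hE : FlatMod.IsFinLocFreeOfRank r E)
    {A B : X.Modules} (hA : Coh.IsCoh A) (hB : Coh.IsCoh B)
    (h : ∀ η ∈ genericPoints X, H22Alg.DevLength.len A η = H22Alg.DevLength.len B η) :
    H22Alg.DegBundle.ψ k E r A = H22Alg.DegBundle.ψ k E r B := by
  have hd : ∀ F : X.Modules, topologicalKrullDim (CohB1.support F) ≤ ((1 : ℕ) : WithBot ℕ∞) := fun F =>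
    (Topology.IsInducing.subtypeVal.topologicalKrullDim_le).trans hdim
  rw [H22Alg.DevLength.eq_finsum (H22Alg.DegBundle.isAddFn_ψ k hE) (H22Alg.DegBundle.ψ_eq_zero k hE) hA (hd A),
    H22Alg.DevLength.eq_finsum (H22Alg.DegBundle.isAddFn_ψ k hE) (H22Alg.DegBundle.ψ_eq_zero k hE) hB (hd B)]
  refine finsum_congr fun ξ => ?_
  split_ifs with hξ
  · rw [h ξ (H8Props.mem_genericPoints_iff.2 fun z hz => ?_)]
    by_contra hne
    exact (H22Alg.DevLength.dim_closure_lt hz (Ne.symm hne) (d := 1)
      ((Topology.IsInducing.subtypeVal.topologicalKrullDim_le).trans hdim)).ne hξ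
  · rfl

omit [IsReduced X] in
theorem deg_subsch_eq [IsNoetherian X] (hE : FlatMod.IsFinLocFreeOfRank r E) (T : Set X) (hT : IsClosed T) :
    letI : (VecSt.subsch X T hT).Over (Spec (CommRingCat.of k)) :=
      ⟨VecSt.subschι X T hT ≫ (X ↘ Spec (CommRingCat.of k))⟩
    Curv2.deg k (VecSt.subsch X T hT) ((Scheme.Modules.pullback (VecSt.subschι X T hT)).obj E) r =
      H22Alg.DegBundle.ψ k E r ((Coh.push (VecSt.subschι X T hT)).obj (Coh.structureModule (VecSt.subsch X T hT))) := by
  letI : (VecSt.subsch X T hT).Over (Spec (CommRingCat.of k)) :=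
    ⟨VecSt.subschι X T hT ≫ (X ↘ Spec (CommRingCat.of k))⟩
  let J := Scheme.IdealSheafData.vanishingIdeal ⟨T, hT⟩
  have hEf : FlatMod.IsFinLocFree E := fun y => let ⟨U, hU⟩ := hE y; ⟨U, r, hU⟩
  haveI : IsLocallyNoetherian J.subscheme := LocallyOfFiniteType.isLocallyNoetherian J.subschemeι
  let O := Coh.structureModule J.subscheme
  have hiso := Groth.Agent.H10Coh.PF.isIso_ψ_of_isFinLocFree J.subschemeι hEf O
  let eP : CohB1.tensorMod ((Coh.push J.subschemeι).obj O) E ≅
      (Coh.push J.subschemeι).obj (CohB1.tensorMod O ((Scheme.Modules.pullback J.subschemeι).obj E)) :=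
    @asIso _ _ _ _ _ hiso
  haveI : O.IsQuasicoherent := Groth.Agent.H10Coh.isQuasicoherent_unit
  haveI : (CohB1.tensorMod O ((Scheme.Modules.pullback J.subschemeι).obj E)).IsQuasicoherent :=
    (Groth.Agent.H10Coh.TT.isCoh_tensorMod (Groth.Agent.H10Coh.isCoh_structureModule' _)
      (Groth.Agent.H16Derived.KFlat.Stalk.isCoh_of_isFinLocFree
        (Groth.Agent.H16Derived.KFlat.Stalk.isFinLocFree_pullback J.subschemeι hEf))).1
  show _ - _ = _ - _
  rw [Groth.Agent.H25Euler.euler_congr eP, Groth.Agent.H28Int.Push.euler_push k J.subschemeι rfl,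
    Groth.Agent.H28Int.Push.euler_push k J.subschemeι rfl,
    Groth.Agent.H25Euler.euler_congr (Groth.Agent.H10Coh.Tw.leftUnitIso ((Scheme.Modules.pullback J.subschemeι).obj E))]

/-- **`r·χ(F_T) + deg(E|_T) = χ(F_T ⊗ E)`.** -/
theorem rBeta_eq (hdim : topologicalKrullDim X ≤ 1) (hE : FlatMod.IsFinLocFreeOfRank r E)
    {F : X.Modules} (hF : TFOne.IsTF1 X F) {T : Set X} (hT : IsClosed T) {G : X.Modules} {π : F ⟶ G}
    (hG : TFOne.IsQuotOn X F T G π) :
    TFOne.rBeta X k (X ↘ Spec (CommRingCat.of k)) T hT E r G = bE k E G := by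
  obtain ⟨hπ, hGc, hGt, hGs⟩ := hG
  haveI := H28Int.isNoetherian k (X := X)
  rw [bE_eq (r := r)]
  show (r : ℤ) * Curv2.euler k X G + _ = _
  rw [deg_subsch_eq hE T hT, add_comm]
  congr 1
  haveI hepi : Epi (ClSub.toSubscheme (Scheme.IdealSheafData.vanishingIdeal (⟨T, hT⟩ : Closeds X))) :=
    H10Coh.epi_toSubscheme _
  refine ψ_congr_generic hdim hE ?_ hGc fun η hη => ?_
  · exact H24FSch.isCoh_pushforward_of_isClosedImmersion _ (H10Coh.isCoh_structureModule' _)
  · by_cases hηT : η ∈ T
    · haveI := hπ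
      have b1 := bijective_at_generic hF hη π (hGs ▸ hηT)
      have hnt : Nontrivial (((Coh.push (VecSt.subschι X T hT)).obj
          (Coh.structureModule (VecSt.subsch X T hT))).presheaf.stalk η) := by
        obtain ⟨z, hz⟩ := (range_subschι (hZ := hT)).superset hηT
        subst hz
        haveI := isIso_counit (hZ := hT) (Coh.structureModule (VecSt.subsch X T hT))
        haveI : Nontrivial ((Coh.structureModule (VecSt.subsch X T hT)).presheaf.stalk z) :=
          (H06EGA9.bijective_smul_oneStalk z).1.nontrivial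
        have h1 : Function.Surjective (H24Quot.nu (VecSt.subschι X T hT) (Coh.structureModule (VecSt.subsch X T hT)) z) :=
          @H24Quot.nu_surjective_of_epi _ _ _ ((Coh.push (VecSt.subschι X T hT)).obj _) _
            (H24Quot.cou (VecSt.subschι X T hT) _) inferInstance inferInstance z
        exact h1.nontrivial
      have b2 := bijective_at_generic (isTF1_structureModule (X := X)) hη
        (ClSub.toSubscheme (Scheme.IdealSheafData.vanishingIdeal (⟨T, hT⟩ : Closeds X)))
        ((mem_support_iff η).2 hnt)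
      obtain ⟨eF⟩ := hF.2.2 η hη
      obtain ⟨eO⟩ := (isTF1_structureModule (X := X)).2.2 η hη
      exact ((LinearEquiv.ofBijective _ b2).symm ≪≫ₗ eO ≪≫ₗ eF.symm ≪≫ₗ LinearEquiv.ofBijective _ b1).length_eq
    · rw [H22Alg.DevLength.len_eq_zero fun h => h (subsingleton_push hηT),
        H22Alg.DevLength.len_eq_zero (hGs ▸ hηT)]

/-- The twist of a module with finite support. -/
theorem bE_finite (hdim : topologicalKrullDim X ≤ 1) (hE : FlatMod.IsFinLocFreeOfRank r E) {D : X.Modules}
    (hD : Coh.IsCoh D) (hg : ∀ η ∈ genericPoints X, η ∉ CohB1.support D) :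
    bE k E D = r * Curv2.euler k X D ∧ 0 ≤ Curv2.euler k X D ∧ (Curv2.euler k X D = 0 → IsZero D) := by
  haveI := H28Int.isNoetherian k (X := X)
  obtain ⟨hfin, hcl⟩ := finite_of_isClosed_of_forall_notMem hdim (H10Coh.isClosed_support D hD.2) hg
  have hsub : ∀ y, y ∉ CohB1.support D → Subsingleton (D.presheaf.stalk y) := fun y hy => not_not.1 hy
  have h0 : topologicalKrullDim (CohB1.support D) ≤ ((0 : ℕ) : WithBot ℕ∞) := by
    haveI : Finite (CohB1.support D) := hfin.to_subtype
    haveI : T1Space (CohB1.support D) := ⟨fun z => by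
      have := (hcl z.1 z.2).preimage (continuous_subtype_val (p := (· ∈ CohB1.support D)))
      convert this using 1
      ext w; simp [Subtype.ext_iff]⟩
    exact_mod_cast (topologicalKrullDim_zero_of_discreteTopology (CohB1.support D))
  refine ⟨H22Alg.DegBundle.euler_tensor_finite k hD h0 hE, ?_, ?_⟩ <;>
    rw [H25Euler.euler_eq_sum D 1 fun p hp => H25Par.subsingleton_HH_of_finite_support _ hfin hcl hsub hp,
      Finset.sum_range_one, pow_zero, one_mul]
  · positivity
  · intro hz
    haveI : Module.Finite k (Coh.HH X D 0) := H10Coh.finite_HH_proper k X D hD 0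
    have h1 : Subsingleton (Coh.HH X D 0) := Module.finrank_zero_iff.1 (by exact_mod_cast hz)
    have hb := H25Par.germs_bijective (k := k) D hfin hcl hsub
    refine (IsZero.iff_id_eq_zero _).2 (eq_zero_of_stalkLin _ fun x v => ?_)
    rw [H24Quot.stalkLin_id]
    by_cases hx : x ∈ CohB1.support D
    · classical
      obtain ⟨s, hs⟩ := hb.2 (Pi.single ⟨x, hx⟩ (show H25Par.Stk k D x from v))
      have := congrFun hs ⟨x, hx⟩
      rw [Pi.single_eq_same, Subsingleton.elim s 0, map_zero] at this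
      exact this.symm
    · exact (hsub x hx).elim _ _

end field

end Groth.Agent.H26TF1
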