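import Groth.Agent.H26TF1.Quot
import Groth.Agent.H24Quot.LocalSetup
import Mathlib.RingTheory.Flat.TorsionFree
import Mathlib

/-!
# Restriction to the closed fibre of an elementary modification
-/

set_option autoImplicit false
set_option linter.style.haveILetI false

universe u

open CategoryTheory CategoryTheory.Limits AlgebraicGeometry TopologicalSpace

namespace Groth.Agent.H26TF1

open Groth.Agent.H06Mod Groth.Agent.H29Omega Groth.Agent.H17.KoszTwist

attribute [local instance] H24Quot.stkModule

variable {R : Type u} [CommRing R] [IsDomain R]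

/-- Multiplication by a nonzero element of the base is injective on stalks of a flat module. -/
theorem isSMulRegular_stalk {X : Scheme.{u}} [X.Over (Spec (CommRingCat.of R))] (M : X.Modules)
    (hM : FlatMod.IsFlatOver (X ↘ Spec (CommRingCat.of R)) M) {a : R} (ha : a ≠ 0) (x : X)
    (z : M.presheaf.stalk x) (h : a • z = 0) : z = 0 := by
  let f := X ↘ Spec (CommRingCat.of R)
  letI := FlatMod.moduleStalkOver f M x
  haveI : Module.Flat ((Spec (CommRingCat.of R)).presheaf.stalk (f x)) (M.presheaf.stalk x) := hM x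
  let p : PrimeSpectrum R := f x
  let b : (Spec (CommRingCat.of R)).presheaf.stalk (f x) :=
    (Spec (CommRingCat.of R)).presheaf.germ ⊤ (f x) trivial ((Scheme.ΓSpecIso (CommRingCat.of R)).inv a)
  have hb : IsRegular b := by
    have hinj : Function.Injective (algebraMap R (Localization.AtPrime p.asIdeal)) :=
      IsLocalization.injective _ p.asIdeal.primeCompl_le_nonZeroDivisors
    haveI : IsDomain ((Spec (CommRingCat.of R)).presheaf.stalk (f x)) := inferInstance
    refine IsRegular.of_ne_zero fun hb0 => ha ?_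
    letI := StructureSheaf.stalkAlgebra (R := R) p
    haveI := StructureSheaf.IsLocalization.to_stalk R p
    exact IsLocalization.injective ((Spec.structureSheaf R).presheaf.stalk p)
      p.asIdeal.primeCompl_le_nonZeroDivisors (hb0.trans (map_zero _).symm)
  have hreg : IsSMulRegular (M.presheaf.stalk x) b := Module.Flat.isSMulRegular_of_isRegular hb
  refine hreg ?_
  show b • z = b • 0
  rw [smul_zero, ← h]
  show (f.stalkMap x).hom b • z = H24Quot.base R x a • z
  congr 1
  exact Scheme.Hom.germ_stalkMap_apply _ _ _ _ _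

variable [IsDiscreteValuationRing R]

/-- The restriction to the closed fibre of the kernel of `I → i_* G` sits in
`0 → G → i^* I^G → ker(i^* I → G) → 0`. -/
theorem exists_shortExact {X Xs : Scheme.{u}} (f : X ⟶ Spec (CommRingCat.of R))
    (q : Xs ⟶ Spec (CommRingCat.of (IsLocalRing.ResidueField R))) (i : Xs ⟶ X)
    (hsq : IsPullback i q f (Spec.map (CommRingCat.ofHom (IsLocalRing.residue R))))
    (I : X.Modules) (hIf : FlatMod.IsFlatOver f I) {G : Xs.Modules}
    (π : (Scheme.Modules.pullback i).obj I ⟶ G) [Epi π] (IY : X.Modules)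
    (hIY : IY = kernel ((Scheme.Modules.pullbackPushforwardAdjunction i).unit.app I ≫
      (Scheme.Modules.pushforward i).map π)) :
    ∃ (a : G ⟶ (Scheme.Modules.pullback i).obj IY) (b : (Scheme.Modules.pullback i).obj IY ⟶ kernel π)
      (w : a ≫ b = 0), (ShortComplex.mk a b w).ShortExact := by
  subst hIY
  letI : X.Over (Spec (CommRingCat.of R)) := ⟨f⟩
  haveI : IsClosedImmersion (Spec.map (CommRingCat.ofHom (IsLocalRing.residue R))) :=
    IsClosedImmersion.spec_of_surjective _ IsLocalRing.residue_surjective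
  haveI : IsClosedImmersion i := MorphismProperty.of_isPullback (P := @IsClosedImmersion) hsq.flip inferInstance
  obtain ⟨p, hp⟩ := IsDiscreteValuationRing.exists_irreducible R
  have hp0 : p ≠ 0 := hp.ne_zero
  -- the stalks of `i^* I`
  have hu : ∀ (M : X.Modules) (v : Xs) (z : M.presheaf.stalk (i v)),
      pullStalk i M v z = 0 ↔ ∃ w, p • w = z := fun M v z => by
    rw [H24Quot.pullStalk_eq_zero_iff_base i M v (J := IsLocalRing.maximalIdeal R) (by
      rw [← IsLocalRing.ker_residue]
      exact H24Quot.ker_stalkMap_fibre (IsLocalRing.residue R) IsLocalRing.residue_surjective hsq v) z,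
      hp.maximalIdeal_eq, Submodule.ideal_span_singleton_smul, Submodule.mem_smul_pointwise_iff_exists]
    simp only [Submodule.mem_top, true_and]
  have hsurj : ∀ (M : X.Modules) (v : Xs), Function.Surjective (pullStalk i M v) := fun M v =>
    H24Quot.pullStalk_surjective i M v
  let γ : I ⟶ (Scheme.Modules.pushforward i).obj G := (Scheme.Modules.pullbackPushforwardAdjunction i).unit.app I ≫ (Scheme.Modules.pushforward i).map π
  have hγ : γ = (Scheme.Modules.pullbackPushforwardAdjunction i).homEquiv I G π :=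
    (Adjunction.homEquiv_unit _ _ _ _).symm
  have hker : ∀ (v : Xs) (z : I.presheaf.stalk (i v)),
      stalkLin γ (i v) z = 0 ↔ stalkLin π v (pullStalk i I v z) = 0 := fun v z => by
    rw [hγ]; exact H24Quot.stalkLin_homEquiv_eq_zero_iff i π v z
  have hmem : ∀ (v : Xs) (z : I.presheaf.stalk (i v)), stalkLin π v (pullStalk i I v z) = 0 →
      ∃ k, stalkLin (kernel.ι γ) (i v) k = z := fun v z hz =>
    (range_stalk_kernelι γ (i v)).ge ((hker v z).2 hz)
  -- multiplication by the uniformiser lands in the kernel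
  have hpγ : Formal.smulMod R I p ≫ γ = 0 := eq_zero_of_stalkLin _ fun x z => by
    by_cases hx : x ∈ Set.range i
    · obtain ⟨v, rfl⟩ := hx
      rw [stalkLin_comp, hker, H24Quot.stalkLin_smulMod, (hu I v _).2 ⟨z, rfl⟩, map_zero]
    · haveI : Subsingleton (((Scheme.Modules.pushforward i).obj G).presheaf.stalk x) :=
        not_not.1 (LeadDev.notMem_support_push i G hx)
      exact Subsingleton.elim _ _
  let m : I ⟶ kernel γ := kernel.lift γ _ hpγ
  have hm : ∀ x z, stalkLin (kernel.ι γ) x (stalkLin m x z) = p • z := fun x z => by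
    rw [← stalkLin_comp, kernel.lift_ι, H24Quot.stalkLin_smulMod]
  have hmι : ∀ x k, stalkLin m x (stalkLin (kernel.ι γ) x k) = p • k := fun x k =>
    stalk_injective_of_mono (kernel.ι γ) x (by
      rw [hm]
      exact ((stalkLin (kernel.ι γ) x).map_smul (H24Quot.base R x p) k).symm)
  let P := Scheme.Modules.pullback i
  have hmap : ∀ {M N : X.Modules} (φ : M ⟶ N) (v : Xs) (z : M.presheaf.stalk (i v)),
      stalkLin (P.map φ) v (pullStalk i M v z) = pullStalk i N v (stalkLin φ (i v) z) := fun φ v z =>
    pullStalk_naturality i _ v φ z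
  have hb0 : P.map (kernel.ι γ) ≫ π = 0 := eq_zero_of_stalkLin _ fun v t => by
    obtain ⟨k, rfl⟩ := hsurj _ v t
    rw [stalkLin_comp, hmap, ← hker, ← stalkLin_comp, kernel.condition]
    exact stalkLin_zero _ _
  let b : P.obj (kernel γ) ⟶ kernel π := kernel.lift π _ hb0
  have ha0 : kernel.ι π ≫ P.map m = 0 := eq_zero_of_stalkLin _ fun v n => by
    obtain ⟨z, hz⟩ := hsurj I v (stalkLin (kernel.ι π) v n)
    have hz0 : stalkLin π v (pullStalk i I v z) = 0 := by
      rw [hz, ← stalkLin_comp, kernel.condition]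
      exact stalkLin_zero _ _
    obtain ⟨k, rfl⟩ := hmem v z hz0
    rw [stalkLin_comp, ← hz, hmap, hmι, (hu _ v _).2 ⟨k, rfl⟩]
  let a : G ⟶ P.obj (kernel γ) := Abelian.epiDesc π (P.map m) ha0
  have haπ : ∀ (v : Xs) (z : I.presheaf.stalk (i v)),
      stalkLin a v (stalkLin π v (pullStalk i I v z)) = pullStalk i _ v (stalkLin m (i v) z) := fun v z => by
    rw [← stalkLin_comp, Abelian.comp_epiDesc, hmap]
  have hbι : ∀ (v : Xs) (k : (kernel γ).presheaf.stalk (i v)),
      stalkLin (kernel.ι π) v (stalkLin b v (pullStalk i _ v k)) =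
        pullStalk i I v (stalkLin (kernel.ι γ) (i v) k) := fun v k => by
    rw [← stalkLin_comp, kernel.lift_ι, hmap]
  have hG : ∀ (v : Xs) (g : G.presheaf.stalk v), ∃ z, stalkLin π v (pullStalk i I v z) = g := fun v g => by
    obtain ⟨j, rfl⟩ := surjective_stalk_of_epi π v g
    obtain ⟨z, rfl⟩ := hsurj I v j
    exact ⟨z, rfl⟩
  have w : a ≫ b = 0 := eq_zero_of_stalkLin _ fun v g => by
    obtain ⟨z, rfl⟩ := hG v g
    refine stalk_injective_of_mono (kernel.ι π) v ?_
    rw [map_zero, stalkLin_comp, haπ, hbι, hm, (hu I v _).2 ⟨z, rfl⟩]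
  haveI : Mono a := mono_of_stalk_injective _ fun v => by
    rw [injective_iff_map_eq_zero]
    intro g hg
    obtain ⟨z, rfl⟩ := hG v g
    rw [haπ] at hg
    obtain ⟨k, hk⟩ := (hu _ v _).1 hg
    have h1 : p • z = p • stalkLin (kernel.ι γ) (i v) k := by
      rw [← hm, ← hk]
      exact (stalkLin (kernel.ι γ) (i v)).map_smul (H24Quot.base R (i v) p) k
    have h2 : z = stalkLin (kernel.ι γ) (i v) k :=
      sub_eq_zero.1 (isSMulRegular_stalk I hIf hp0 (i v) _ (by rw [smul_sub, h1, sub_self]))
    rw [h2, ← hker, ← stalkLin_comp, kernel.condition]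
    exact stalkLin_zero _ _
  haveI : Epi b := epi_of_surjective_stalkLin _ fun v n => by
    obtain ⟨z, hz⟩ := hsurj I v (stalkLin (kernel.ι π) v n)
    have hz0 : stalkLin π v (pullStalk i I v z) = 0 := by
      rw [hz, ← stalkLin_comp, kernel.condition]
      exact stalkLin_zero _ _
    obtain ⟨k, rfl⟩ := hmem v z hz0
    exact ⟨pullStalk i _ v k, stalk_injective_of_mono (kernel.ι π) v (by rw [hbι, hz])⟩
  refine ⟨a, b, w, { exact := exact_of_range_eq_ker _ fun v t ht => ?_ }⟩
  obtain ⟨k, rfl⟩ := hsurj _ v t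
  have h0 : stalkLin b v (pullStalk i _ v k) = 0 := ht
  have h1 : pullStalk i I v (stalkLin (kernel.ι γ) (i v) k) = 0 := by rw [← hbι, h0, map_zero]
  obtain ⟨z, hz⟩ := (hu I v _).1 h1
  refine ⟨stalkLin π v (pullStalk i I v z), ?_⟩
  show stalkLin a v _ = _
  rw [haπ]
  congr 1
  exact stalk_injective_of_mono (kernel.ι γ) (i v) (by rw [hm, hz])

end Groth.Agent.H26TF1
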