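import Groth.Agent.H26TF1.Defect
import Groth.Agent.H26TF1.Modif
import Mathlib

/-!
# Numerics of elementary modifications on the closed fibre
-/

set_option autoImplicit false
set_option linter.style.haveILetI false

universe u

open CategoryTheory CategoryTheory.Limits AlgebraicGeometry TopologicalSpace

namespace Groth.Agent.H26TF1

open Groth.Agent.H06Mod Groth.Agent.H29Omega Groth.Agent.H17.KoszTwist

variable {X : Scheme.{u}}

theorem IsCompUnion.union {S T : Set X} (hS : IsCompUnion S) (hT : IsCompUnion T) : IsCompUnion (S ∪ T) := by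
  refine ⟨hS.1.union hT.1, ?_⟩
  rintro x (hx | hx)
  · obtain ⟨η, h1, h2, h3⟩ := hS.2 x hx
    exact ⟨η, h1, Or.inl h2, h3⟩
  · obtain ⟨η, h1, h2, h3⟩ := hT.2 x hx
    exact ⟨η, h1, Or.inr h2, h3⟩

theorem isCompUnion_empty : IsCompUnion (∅ : Set X) := ⟨isClosed_empty, fun _ h => h.elim⟩

theorem isZero_of_isQuotOn_empty [AlgebraicGeometry.IsReduced X] {F G : X.Modules} {π : F ⟶ G} (h : TFOne.IsQuotOn X F ∅ G π) : IsZero G :=
  (IsZero.iff_id_eq_zero _).2 (eq_zero_of_stalkLin _ fun x v => by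
    haveI : Subsingleton (G.presheaf.stalk x) := subsingleton_of_notMem (by rw [h.2.2.2]; exact Set.notMem_empty x)
    exact Subsingleton.elim _ _)

theorem mem_of_component_subset {η : X} {Y : Set X} (hη : η ∈ genericPoints X) :
    closure ({η} : Set X) ∈ irreducibleComponents (X : Type u) ∧ (closure ({η} : Set X) ⊆ Y → η ∈ Y) :=
  ⟨hη, fun h => h (subset_closure rfl)⟩

theorem generic_mem_compl_union_iff {η : X} (hη : η ∈ genericPoints X) {Y Y' : Set X} (hY : IsClosed Y)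
    (hY' : Y' = ⋃₀ {C | C ∈ irreducibleComponents (X : Type u) ∧ ¬ C ⊆ Y}) : η ∈ Y' ↔ η ∉ Y := by
  subst hY'
  constructor
  · rintro ⟨C, ⟨hC, hCY⟩, hηC⟩ hηY
    refine hCY ?_
    have hs : closure ({η} : Set X) ⊆ C :=
      closure_minimal (Set.singleton_subset_iff.2 hηC) (isClosed_of_mem_irreducibleComponents C hC)
    have : C ⊆ closure ({η} : Set X) :=
      (component_of_generic hη).2 hC.1 hs
    exact this.trans (closure_minimal (Set.singleton_subset_iff.2 hηY) hY)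
  · intro h
    exact ⟨closure {η}, ⟨hη, fun hc => h (hc (subset_closure rfl))⟩, subset_closure rfl⟩

theorem isNoetherian_fibre {R : Type u} [CommRing R] [IsLocalRing R] {X : Scheme.{u}}
    (f : X ⟶ Spec (CommRingCat.of R)) [IsProper f] {Xs : Scheme.{u}}
    [Xs.Over (Spec (CommRingCat.of (IsLocalRing.ResidueField R)))] (i : Xs ⟶ X)
    (hsq : IsPullback i (Xs ↘ Spec (CommRingCat.of (IsLocalRing.ResidueField R))) f
      (Spec.map (CommRingCat.ofHom (IsLocalRing.residue R)))) :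
    IsProper (Xs ↘ Spec (CommRingCat.of (IsLocalRing.ResidueField R))) ∧ AlgebraicGeometry.IsNoetherian Xs := by
  haveI : IsProper (Xs ↘ Spec (CommRingCat.of (IsLocalRing.ResidueField R))) :=
    MorphismProperty.of_isPullback (P := @IsProper) hsq inferInstance
  exact ⟨inferInstance, H28Int.isNoetherian (IsLocalRing.ResidueField R)⟩

section field

variable {k : Type u} [Field k] [X.Over (Spec (CommRingCat.of k))] [IsProper (X ↘ Spec (CommRingCat.of k))]
  [AlgebraicGeometry.IsReduced X] {E J : X.Modules} {r : ℕ}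

/-- The twist of a defect is nonnegative, and vanishes only for the zero module. -/
theorem bE_defect (hdim : topologicalKrullDim X ≤ 1) (hE : FlatMod.IsFinLocFreeOfRank r E) (hr : 0 < r)
    {D : X.Modules} (hD : Coh.IsCoh D) (hg : ∀ η ∈ genericPoints X, η ∉ CohB1.support D) :
    0 ≤ bE k E D ∧ (bE k E D = 0 ↔ IsZero D) ∧ (Curv2.euler k X D = 0 ↔ IsZero D) := by
  haveI := H28Int.isNoetherian k (X := X)
  obtain ⟨h1, h2, h3⟩ := bE_finite (k := k) hdim hE hD hg
  refine ⟨h1 ▸ mul_nonneg (by positivity) h2, ⟨fun h => h3 ?_, (isAddFn_bE (k := k) hE).zero⟩,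
    ⟨h3, (isAddFn_euler (k := k) (X := X)).zero⟩⟩
  rw [h1] at h
  exact (mul_eq_zero.1 h).resolve_left (by exact_mod_cast hr.ne')

/-- The value on the whole curve. -/
theorem bE_self (hdim : topologicalKrullDim X ≤ 1) (hE : FlatMod.IsFinLocFreeOfRank r E) (hJ : TFOne.IsTF1 X J)
    {d : ℤ} (hχ : Curv2.euler k X J = d) (hd : Curv2.deg k X E r = -(r : ℤ) * d) : bE k E J = 0 := by
  haveI := H28Int.isNoetherian k (X := X)
  rw [bE_eq (r := r), hχ, ψ_congr_generic hdim hE hJ.1 (H10Coh.isCoh_structureModule' X) fun η hη => ?_,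
    H22Alg.DegBundle.ψ_structure, hd]
  · ring
  · obtain ⟨eF⟩ := hJ.2.2 η hη
    obtain ⟨eO⟩ := (isTF1_structureModule (X := X)).2.2 η hη
    exact (eF ≪≫ₗ eO.symm).length_eq

/-- Semistability gives nonnegativity on every union of components. -/
theorem bE_nonneg (hdim : topologicalKrullDim X ≤ 1) (hE : FlatMod.IsFinLocFreeOfRank r E)
    (hss : TFOne.IsSemistable X k (X ↘ Spec (CommRingCat.of k)) J E r) (h0 : bE k E J = 0)
    {T : Set X} (hT : IsCompUnion T) {G : X.Modules} {π : J ⟶ G} (hG : TFOne.IsQuotOn X J T G π) :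
    0 ≤ bE k E G := by
  haveI := H28Int.isNoetherian k (X := X)
  rcases T.eq_empty_or_nonempty with rfl | hne
  · exact ((isAddFn_bE (k := k) hE).zero (isZero_of_isQuotOn_empty hG)).ge
  · by_cases hu : T = Set.univ
    · subst hu
      obtain ⟨e⟩ := exists_quotIso hss.1 hG (isQuotOn_univ hss.1)
      exact ((isAddFn_bE (k := k) hE).congr e ▸ h0 : bE k E G = 0).ge
    · rw [← rBeta_eq hdim hE hss.1 hT.1 hG]
      exact hss.2 T hT.1 (hT.isSubcurve hne) hu G π hG

/-- The key inclusion for minimal subcurves of value zero. -/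
theorem subset_of_zero (hdim : topologicalKrullDim X ≤ 1) (hE : FlatMod.IsFinLocFreeOfRank r E) (hr : 0 < r)
    (hss : TFOne.IsSemistable X k (X ↘ Spec (CommRingCat.of k)) J E r) (h0 : bE k E J = 0)
    {Y : Set X} (hY : IsCompUnion Y) {GY : X.Modules} {πY : J ⟶ GY} (hGY : TFOne.IsQuotOn X J Y GY πY)
    {J' : X.Modules} (a : GY ⟶ J') (b : J' ⟶ kernel πY) (w : a ≫ b = 0)
    (hex : (ShortComplex.mk a b w).ShortExact) {W : Set X} (hWc : W ∈ irreducibleComponents (X : Type u))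
    (hWY : W ⊆ Y) (hY0 : bE k E GY = 0)
    (hYmin : ∀ (T : Set X) (hT : IsClosed T), VecSt.IsSubcurve X T → W ⊆ T → ∀ (G : X.Modules) (π : J ⟶ G),
      TFOne.IsQuotOn X J T G π → TFOne.rBeta X k (X ↘ Spec (CommRingCat.of k)) T hT E r G = 0 → Y ⊆ T)
    {Z : Set X} (hZ : IsCompUnion Z) (hWZ : W ⊆ Z) {G1 : X.Modules} {π1 : J' ⟶ G1}
    (hG1 : TFOne.IsQuotOn X J' Z G1 π1) (hZ0 : bE k E G1 = 0) : Y ⊆ Z := by
  haveI := H28Int.isNoetherian k (X := X)
  let W₀ := ⋃₀ {C | C ∈ irreducibleComponents (X : Type u) ∧ C ⊆ Y ∩ Z}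
  have hW₀ : IsCompUnion W₀ := isCompUnion_sUnion fun C => C ⊆ Y ∩ Z
  have hsub : W₀ ⊆ Y ∩ Z := Set.sUnion_subset fun C hC => hC.2
  have hW₀W : W ⊆ W₀ := fun x hx => ⟨W, ⟨hWc, fun y hy => ⟨hWY hy, hWZ hy⟩⟩, hx⟩
  obtain ⟨GW, πW, hGW⟩ := exists_isQuotOn hss.1 hW₀
  obtain ⟨GU, πU, hGU⟩ := exists_isQuotOn hss.1 (hY.union hZ)
  obtain ⟨D, hD, hDg, hadd, -, -⟩ := exists_defect hss.1 hGY a b w hex
    (fun η hη => generic_mem_sUnion_iff hη hY.1 hZ.1 rfl) (hsub.trans Set.inter_subset_left) hG1 hGW hGU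
  have h1 := hadd _ (isAddFn_bE (k := k) hE)
  have h2 := (bE_defect (k := k) hdim hE hr hD hDg).1
  have h3 := bE_nonneg (k := k) hdim hE hss h0 hW₀ hGW
  have h4 := bE_nonneg (k := k) hdim hE hss h0 (hY.union hZ) hGU
  rw [hZ0, hY0] at h1
  have h5 : bE k E GW = 0 := by omega
  refine (hYmin W₀ hW₀.1 (hW₀.isSubcurve (hWc.1.nonempty.mono hW₀W)) hW₀W GW πW hGW ?_).trans
    (hsub.trans Set.inter_subset_right)
  rw [rBeta_eq hdim hE hss.1 hW₀.1 hGW, h5]

end field

end Groth.Agent.H26TF1
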