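import Groth.Agent.H26TF1.Basic
import Groth.Agent.H17.Reduced
import Groth.Agent.H24Quot.LocalSetup
import Groth.Agent.H22Alg.MumfordQuot
import Groth.Agent.H16Derived.ProjFormula.ClosedImm
import Mathlib

/-!
# Modules pushed forward from subcurves
-/

set_option autoImplicit false

universe u

open CategoryTheory CategoryTheory.Limits AlgebraicGeometry TopologicalSpace

namespace Groth.Agent.H26TF1

open Groth.Agent.H06Mod Groth.Agent.H29Omega Groth.Agent.H17.KoszTwist

variable {X : Scheme.{u}} {Z : Set X} {hZ : IsClosed Z}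

instance isReduced_subsch : IsReduced (VecSt.subsch X Z hZ) := H17.isReduced_vanishingIdeal_subscheme _

theorem range_subschι : Set.range (VecSt.subschι X Z hZ) = Z :=
  H17.range_vanishingIdeal_subschemeι ⟨Z, hZ⟩

theorem mem_of_subsch (z : VecSt.subsch X Z hZ) : VecSt.subschι X Z hZ z ∈ Z :=
  (range_subschι (hZ := hZ)).subset (Set.mem_range_self z)

theorem generic_subschι (hs : VecSt.IsSubcurve X Z) {z : VecSt.subsch X Z hZ}
    (hz : z ∈ genericPoints (VecSt.subsch X Z hZ)) : VecSt.subschι X Z hZ z ∈ genericPoints X := by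
  obtain ⟨𝒮, h𝒮, -, hU⟩ := hs
  obtain ⟨C, hC, hzC⟩ : ∃ C ∈ 𝒮, VecSt.subschι X Z hZ z ∈ C := by
    exact Set.mem_sUnion.1 (hU.subset (mem_of_subsch z))
  obtain ⟨η, hη⟩ := QuasiSober.sober (h𝒮 hC).1 (isClosed_of_mem_irreducibleComponents C (h𝒮 hC))
  have hg : η ∈ genericPoints X := show closure {η} ∈ irreducibleComponents X by rw [hη.def]; exact h𝒮 hC
  obtain ⟨w, hw⟩ : η ∈ Set.range (VecSt.subschι X Z hZ) := by
    rw [range_subschι, hU]; exact Set.mem_sUnion_of_mem hη.mem hC
  have hwz : w ⤳ z := (VecSt.subschι X Z hZ).isClosedEmbedding.isInducing.specializes_iff.1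
    (by rw [hw]; exact hη.specializes hzC)
  rw [← H8Props.mem_genericPoints_iff.1 hz w hwz, hw]
  exact hg

theorem exists_generic_preimage {η : X} (hη : η ∈ genericPoints X) (h : η ∈ Z) :
    ∃ z ∈ genericPoints (VecSt.subsch X Z hZ), VecSt.subschι X Z hZ z = η := by
  obtain ⟨z, hz⟩ := (range_subschι (hZ := hZ)).superset h
  refine ⟨z, H8Props.mem_genericPoints_iff.2 fun y hy => ?_, hz⟩
  refine (VecSt.subschι X Z hZ).isClosedEmbedding.injective ?_
  rw [hz]
  exact H8Props.mem_genericPoints_iff.1 hη _ (hz ▸ hy.map (VecSt.subschι X Z hZ).continuous)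

/-- Morphisms into a pushforward from a subcurve are determined at the generic points. -/
theorem eq_zero_push [IsLocallyNoetherian X] (hs : VecSt.IsSubcurve X Z)
    {J : (VecSt.subsch X Z hZ).Modules} (hJ : TFOne.IsTF1 (VecSt.subsch X Z hZ) J) {E : X.Modules}
    (φ : E ⟶ (Coh.push (VecSt.subschι X Z hZ)).obj J)
    (h : ∀ η ∈ genericPoints X, η ∈ Z → ∀ a, stalkLin φ η a = 0) : φ = 0 := by
  haveI : IsLocallyNoetherian (VecSt.subsch X Z hZ) :=
    LocallyOfFiniteType.isLocallyNoetherian (VecSt.subschι X Z hZ)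
  obtain ⟨ψ, rfl⟩ :=
    ((Scheme.Modules.pullbackPushforwardAdjunction (VecSt.subschι X Z hZ)).homEquiv E J).surjective φ
  have : ψ = 0 := eq_zero_of_generic hJ.1 hJ.2.1 ψ fun z hz b => by
    obtain ⟨a, rfl⟩ := H22Alg.MumfordQuot.pullStalk_surjective (VecSt.subschι X Z hZ) E z b
    exact (H24Quot.stalkLin_homEquiv_eq_zero_iff (VecSt.subschι X Z hZ) ψ z a).1 (h _ (generic_subschι hs hz) (mem_of_subsch z) a)
  rw [this, Adjunction.homEquiv_unit, Functor.map_zero, comp_zero]

theorem subsingleton_push {J : (VecSt.subsch X Z hZ).Modules} {x : X} (h : x ∉ Z) :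
    Subsingleton (((Coh.push (VecSt.subschι X Z hZ)).obj J).presheaf.stalk x) := by
  by_contra hc
  exact LeadDev.notMem_support_push (VecSt.subschι X Z hZ) J (by rw [range_subschι]; exact h) hc

theorem isIso_counit (J : (VecSt.subsch X Z hZ).Modules) :
    IsIso ((Scheme.Modules.pullbackPushforwardAdjunction (VecSt.subschι X Z hZ)).counit.app J) :=
  Groth.Agent.H16Derived.ProjFormula.isIso_counit_of_isClosedImmersion (VecSt.subschι X Z hZ) J

theorem nontrivial_push {J : (VecSt.subsch X Z hZ).Modules} (hJ : TFOne.IsTF1 (VecSt.subsch X Z hZ) J)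
    {η : X} (hη : η ∈ genericPoints X) (h : η ∈ Z) :
    Nontrivial (((Coh.push (VecSt.subschι X Z hZ)).obj J).presheaf.stalk η) := by
  obtain ⟨z, hz, rfl⟩ := exists_generic_preimage (hZ := hZ) hη h
  obtain ⟨e⟩ := hJ.2.2 z hz
  haveI : Nontrivial (J.presheaf.stalk z) := e.toEquiv.nontrivial
  haveI := isIso_counit (hZ := hZ) J
  have h1 : Function.Surjective (H24Quot.nu (VecSt.subschι X Z hZ) J z) :=
    @H24Quot.nu_surjective_of_epi _ _ _ ((Coh.push (VecSt.subschι X Z hZ)).obj J) J
      (H24Quot.cou (VecSt.subschι X Z hZ) J) inferInstance inferInstance z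
  exact h1.nontrivial

/-- Endomorphisms of a pushforward come from the subcurve. -/
theorem exists_push_map {J J' : (VecSt.subsch X Z hZ).Modules}
    (φ : (Coh.push (VecSt.subschι X Z hZ)).obj J ⟶ (Coh.push (VecSt.subschι X Z hZ)).obj J') :
    ∃ θ : J ⟶ J', (Coh.push (VecSt.subschι X Z hZ)).map θ = φ := by
  haveI : IsIso (Scheme.Modules.pullbackPushforwardAdjunction (VecSt.subschι X Z hZ)).counit :=
    @NatIso.isIso_of_isIso_app _ _ _ _ _ _ _ isIso_counit
  exact ((Scheme.Modules.pullbackPushforwardAdjunction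
    (VecSt.subschι X Z hZ)).fullyFaithfulROfIsIsoCounit).map_surjective φ

theorem not_isZero_push {J : (VecSt.subsch X Z hZ).Modules} (h : ¬ IsZero J) :
    ¬ IsZero ((Coh.push (VecSt.subschι X Z hZ)).obj J) := fun h0 => h <| by
  haveI : IsIso (Scheme.Modules.pullbackPushforwardAdjunction (VecSt.subschι X Z hZ)).counit :=
    @NatIso.isIso_of_isIso_app _ _ _ _ _ _ _ isIso_counit
  refine (IsZero.iff_id_eq_zero _).2 (((Scheme.Modules.pullbackPushforwardAdjunction
    (VecSt.subschι X Z hZ)).fullyFaithfulROfIsIsoCounit).map_injective ?_)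
  exact h0.eq_of_src _ _

theorem push_map_smulMod {k : Type u} [Field k] [X.Over (Spec (CommRingCat.of k))]
    (J : (VecSt.subsch X Z hZ).Modules) (c : k) :
    letI : (VecSt.subsch X Z hZ).Over (Spec (CommRingCat.of k)) :=
      ⟨VecSt.subschι X Z hZ ≫ (X ↘ Spec (CommRingCat.of k))⟩
    (Coh.push (VecSt.subschι X Z hZ)).map (Formal.smulMod k J c) =
      Formal.smulMod k ((Coh.push (VecSt.subschι X Z hZ)).obj J) c := by
  refine Scheme.Modules.hom_ext _ _ fun U => ?_
  ext m
  exact (congrArg (· • (show Γ(J, VecSt.subschι X Z hZ ⁻¹ᵁ U) from m))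
    (ConcreteCategory.congr_hom ((VecSt.subschι X Z hZ).naturality (homOfLE (le_top : U ≤ ⊤)).op)
      (Coh.toGlobal (X ↘ Spec (CommRingCat.of k)) c))).symm

theorem hom_eq_of_stalk {F G : X.Modules} (φ ψ : F ⟶ G) (h : ∀ x a, stalkLin φ x a = stalkLin ψ x a) :
    φ = ψ :=
  sub_eq_zero.1 (eq_zero_of_stalkLin _ fun x a => by rw [H26TF1.stalkLin_sub, h, sub_self])

section scalars

variable {k : Type u} [Field k] [X.Over (Spec (CommRingCat.of k))] {F : X.Modules}

theorem smulMod_zero : Formal.smulMod k F (0 : k) = 0 :=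
  hom_eq_of_stalk _ _ fun x a => by rw [stalkLin_smulMod, map_zero, zero_smul]; exact (stalkLin_zero _ _).symm

theorem smulMod_inv_comp {c : k} (h : c ≠ 0) : Formal.smulMod k F c⁻¹ ≫ Formal.smulMod k F c = 𝟙 F :=
  hom_eq_of_stalk _ _ fun x a => by
    rw [stalkLin_comp, stalkLin_smulMod, stalkLin_smulMod, smul_smul, ← map_mul, mul_inv_cancel₀ h, map_one,
      one_smul, H24Quot.stalkLin_id]

end scalars

end Groth.Agent.H26TF1
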