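import Groth.Agent.H26TF1.Fibre
import Groth.Agent.S0004
import Mathlib

/-!
# A tower of modifications which decompose algebraises to a flat quotient
-/

set_option autoImplicit false
set_option linter.style.haveILetI false

universe u

open CategoryTheory CategoryTheory.Limits AlgebraicGeometry TopologicalSpace Opposite

namespace Groth.Agent.H26TF1

open Groth.Agent.H06Mod Groth.Agent.H29Omega Groth.Agent.H17.KoszTwist

attribute [local instance] H24Quot.stkModule

variable {R : Type u} [CommRing R] [IsDomain R] [IsDiscreteValuationRing R] {X : Scheme.{u}}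
  [X.Over (Spec (CommRingCat.of R))]

omit [IsDomain R] [IsDiscreteValuationRing R] [X.Over (Spec (CommRingCat.of R))] in
theorem stalkLin_id' (M : X.Modules) (x : X) (a : M.presheaf.stalk x) : stalkLin (𝟙 M) x a = a := by
  show (TopCat.Presheaf.stalkFunctor Ab x).map ((Scheme.Modules.toPresheaf X).map (𝟙 M)) a = a
  rw [CategoryTheory.Functor.map_id, CategoryTheory.Functor.map_id]
  rfl

omit [IsDomain R] [IsDiscreteValuationRing R] in
theorem map_base_smul {M N : X.Modules} (φ : M ⟶ N) (x : X) (a : R) (z : M.presheaf.stalk x) :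
    stalkLin φ x (a • z) = a • stalkLin φ x z :=
  (stalkLin φ x).map_smul (H24Quot.base R x a) z

/-- The stalks of `modPowπ`. -/
theorem modPowπ_eq_zero_iff {p : R} (hp : IsLocalRing.maximalIdeal R = Ideal.span {p}) (M : X.Modules) (n : ℕ)
    (x : X) (z : M.presheaf.stalk x) :
    stalkLin (Formal.modPowπ (IsLocalRing.maximalIdeal R) n M) x z = 0 ↔ ∃ w, p ^ n • w = z := by
  have hr := range_eq_ker_of_exact (ShortComplex.mk (Formal.smulFamily (IsLocalRing.maximalIdeal R ^ n) M)
    (Formal.modPowπ (IsLocalRing.maximalIdeal R) n M) (cokernel.condition _)) (ShortComplex.exact_cokernel _) x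
  constructor
  · intro h
    obtain ⟨t, ht⟩ := hr.ge (LinearMap.mem_ker.2 h)
    have hdvd : ∀ a : (IsLocalRing.maximalIdeal R ^ n : Ideal R), ∃ c, c * p ^ n = (a : R) := fun a => by
      have ha := a.2
      simp only [hp, Ideal.span_singleton_pow, Ideal.mem_span_singleton'] at ha
      exact ha
    choose c hc using hdvd
    have hfac : Formal.smulFamily (IsLocalRing.maximalIdeal R ^ n) M =
        (Sigma.desc fun a => Formal.smulMod R M (c a)) ≫ Formal.smulMod R M (p ^ n) :=
      Sigma.hom_ext _ _ fun a => by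
        rw [Formal.smulFamily, Sigma.ι_desc, Sigma.ι_desc_assoc]
        refine hom_eq_of_stalk _ _ fun y v => ?_
        rw [stalkLin_comp, H24Quot.stalkLin_smulMod, H24Quot.stalkLin_smulMod, H24Quot.stalkLin_smulMod,
          smul_smul, mul_comm (p ^ n), hc]
    refine ⟨stalkLin (Sigma.desc fun a => Formal.smulMod R M (c a)) x t, ?_⟩
    rw [← ht, ← H24Quot.stalkLin_smulMod, ← stalkLin_comp]
    exact congrArg (fun φ => stalkLin φ x t) hfac.symm
  · rintro ⟨w, rfl⟩
    have hmem : p ^ n ∈ IsLocalRing.maximalIdeal R ^ n :=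
      Ideal.pow_mem_pow (by rw [hp]; exact Ideal.mem_span_singleton_self p) n
    refine LinearMap.mem_ker.1 (hr.le ⟨stalkLin (Sigma.ι (fun _ : (IsLocalRing.maximalIdeal R ^ n : Ideal R) => M)
      ⟨p ^ n, hmem⟩) x w, ?_⟩)
    rw [← stalkLin_comp]
    show stalkLin (Sigma.ι _ _ ≫ Formal.smulFamily _ M) x w = _
    rw [Formal.smulFamily, Sigma.ι_desc, H24Quot.stalkLin_smulMod]

omit [IsDomain R] [IsDiscreteValuationRing R] in
/-- A uniformiser is a unit at the points off the closed fibre. -/
theorem isUnit_base_of_notMem [IsLocalRing R] {p : R}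
    (hdim : ∀ q : PrimeSpectrum R, q.asIdeal = ⊥ ∨ q.asIdeal = IsLocalRing.maximalIdeal R) (hp0 : p ≠ 0)
    {Xs : Scheme.{u}} {g : Xs ⟶ Spec (CommRingCat.of (IsLocalRing.ResidueField R))} {i : Xs ⟶ X}
    (hsq : IsPullback i g (X ↘ Spec (CommRingCat.of R)) (Spec.map (CommRingCat.ofHom (IsLocalRing.residue R))))
    {x : X} (hx : x ∉ Set.range i) : IsUnit (H24Quot.base R x p) := by
  have hne : ((X ↘ Spec (CommRingCat.of R)) x : PrimeSpectrum R).asIdeal ≠ IsLocalRing.maximalIdeal R := by
    intro h
    refine hx ?_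
    rw [show i = hsq.isoPullback.hom ≫ pullback.fst _ _ from hsq.isoPullback_hom_fst.symm, Scheme.Hom.comp_base,
      TopCat.coe_comp, Function.Surjective.range_comp (show Function.Surjective hsq.isoPullback.hom from
        hsq.isoPullback.hom.homeomorph.surjective), Scheme.Pullback.range_fst]
    refine ⟨IsLocalRing.closedPoint (IsLocalRing.ResidueField R), ?_⟩
    refine PrimeSpectrum.ext ?_
    show Ideal.comap (IsLocalRing.residue R) (IsLocalRing.maximalIdeal _) = _
    rw [h, IsLocalRing.maximalIdeal_eq_bot, ← RingHom.ker_eq_comap_bot, IsLocalRing.ker_residue]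
  have hpn : p ∉ ((X ↘ Spec (CommRingCat.of R)) x : PrimeSpectrum R).asIdeal := by
    rw [(hdim _).resolve_right hne, Ideal.mem_bot]
    exact hp0
  have h1 : IsUnit ((Spec (CommRingCat.of R)).presheaf.germ ⊤ ((X ↘ Spec (CommRingCat.of R)) x) trivial
      ((Scheme.ΓSpecIso (CommRingCat.of R)).inv p)) := by
    let q : PrimeSpectrum R := (X ↘ Spec (CommRingCat.of R)) x
    letI := StructureSheaf.stalkAlgebra (R := R) q
    haveI := StructureSheaf.IsLocalization.to_stalk R q
    exact IsLocalization.map_units ((Spec.structureSheaf R).presheaf.stalk q) (⟨p, hpn⟩ : q.asIdeal.primeCompl)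
  have h2 := h1.map ((X ↘ Spec (CommRingCat.of R)).stalkMap x).hom
  erw [Scheme.Hom.germ_stalkMap_apply] at h2
  exact h2

/-- Flatness over a discrete valuation ring from torsion-freeness. -/
theorem isFlatOver_of_regular {p : R} (hp : Irreducible p) (M : X.Modules)
    (h : ∀ (x : X) (z : M.presheaf.stalk x), p • z = 0 → z = 0) :
    FlatMod.IsFlatOver (X ↘ Spec (CommRingCat.of R)) M := by
  intro x
  let f := X ↘ Spec (CommRingCat.of R)
  let q : PrimeSpectrum R := f x
  letI := FlatMod.moduleStalkOver f M x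
  show Module.Flat ((Spec (CommRingCat.of R)).presheaf.stalk (f x)) (M.presheaf.stalk x)
  let L := (Spec.structureSheaf R).presheaf.stalk q
  letI := StructureSheaf.stalkAlgebra (R := R) q
  haveI := StructureSheaf.IsLocalization.to_stalk R q
  letI : Module L (M.presheaf.stalk x) := FlatMod.moduleStalkOver f M x
  haveI : IsDomain L := IsLocalization.isDomain_of_le_nonZeroDivisors L (M := q.asIdeal.primeCompl)
    q.asIdeal.primeCompl_le_nonZeroDivisors
  haveI : IsDedekindDomain L :=
    IsLocalization.isDedekindDomain R q.asIdeal.primeCompl_le_nonZeroDivisors L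
  show Module.Flat L (M.presheaf.stalk x)
  have hsmul : ∀ (a : R) (z : M.presheaf.stalk x), algebraMap R L a • z = a • z := fun a z => by
    show (f.stalkMap x).hom _ • z = H24Quot.base R x a • z
    congr 1
    exact Scheme.Hom.germ_stalkMap_apply _ _ _ _ _
  have hreg : ∀ (a : R), a ≠ 0 → ∀ z : M.presheaf.stalk x, a • z = 0 → z = 0 := by
    intro a ha z hz
    obtain ⟨n, hn⟩ := IsDiscreteValuationRing.associated_pow_irreducible ha hp
    obtain ⟨u, hu⟩ := hn.symm
    have hu' : IsUnit (H24Quot.base R x (u : R)) := u.isUnit.map (H24Quot.base R x)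
    rw [← hu, mul_comm, mul_smul] at hz
    have hz' : p ^ n • z = 0 := hu'.smul_eq_zero.1 hz
    clear hz hn hu ha
    induction n generalizing z with
    | zero => rwa [pow_zero, one_smul] at hz'
    | succ n ih => rw [pow_succ, mul_smul] at hz'; exact h x z (ih _ hz')
  haveI : Module.IsTorsionFree L (M.presheaf.stalk x) := by
    refine ⟨fun {l} hl v w hvw => ?_⟩
    rw [← sub_eq_zero]
    have h0 : l • (v - w) = 0 := by rw [smul_sub]; exact sub_eq_zero.2 hvw
    obtain ⟨⟨a, s⟩, hs⟩ := IsLocalization.surj q.asIdeal.primeCompl l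
    have ha : a ≠ 0 := fun h0' => by
      subst h0'
      rw [map_zero] at hs
      exact hl.ne_zero ((IsLocalization.map_units L s).mul_left_eq_zero.1 hs)
    refine hreg a ha _ ?_
    rw [← hsmul, ← hs, mul_comm, mul_smul, h0, smul_zero]
  infer_instance

end Groth.Agent.H26TF1
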