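import Groth.Agent.H26TF1.Tower
import Groth.Agent.H24FSch.ModSysPush
import Mathlib

/-!
# The steps of a tower of modifications which decompose
-/

set_option autoImplicit false
set_option linter.style.haveILetI false

universe u

open CategoryTheory CategoryTheory.Limits AlgebraicGeometry TopologicalSpace

namespace Groth.Agent.H26TF1

open Groth.Agent.H06Mod Groth.Agent.H29Omega Groth.Agent.H17.KoszTwist

attribute [local instance] H24Quot.stkModule

variable {R : Type u} [CommRing R] [IsDomain R] [IsDiscreteValuationRing R] {X : Scheme.{u}}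
  [X.Over (Spec (CommRingCat.of R))] {Xs : Scheme.{u}}
  {g : Xs ⟶ Spec (CommRingCat.of (IsLocalRing.ResidueField R))} {i : Xs ⟶ X} {p : R}

theorem isClosedImmersion_fibre
    (hsq : IsPullback i g (X ↘ Spec (CommRingCat.of R)) (Spec.map (CommRingCat.ofHom (IsLocalRing.residue R)))) :
    IsClosedImmersion i :=
  haveI : IsClosedImmersion (Spec.map (CommRingCat.ofHom (IsLocalRing.residue R))) :=
    IsClosedImmersion.spec_of_surjective _ IsLocalRing.residue_surjective
  MorphismProperty.of_isPullback (P := @IsClosedImmersion) hsq.flip inferInstance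

variable [IsClosedImmersion i]
  (hsq : IsPullback i g (X ↘ Spec (CommRingCat.of R)) (Spec.map (CommRingCat.ofHom (IsLocalRing.residue R))))
  (hp : IsLocalRing.maximalIdeal R = Ideal.span {p})

include hsq hp in
/-- The stalks of the restriction to the closed fibre. -/
theorem pullStalk_eq_zero_iff_smul (M : X.Modules) (v : Xs) (z : M.presheaf.stalk (i v)) :
    pullStalk i M v z = 0 ↔ ∃ w, p • w = z := by
  rw [H24Quot.pullStalk_eq_zero_iff_base i M v (J := IsLocalRing.maximalIdeal R) (by
    rw [← IsLocalRing.ker_residue]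
    exact H24Quot.ker_stalkMap_fibre (IsLocalRing.residue R) IsLocalRing.residue_surjective hsq v) z,
    hp, Submodule.ideal_span_singleton_smul, Submodule.mem_smul_pointwise_iff_exists]
  simp only [Submodule.mem_top, true_and]

section step

variable {I : X.Modules} {G : Xs.Modules} {π : (Scheme.Modules.pullback i).obj I ⟶ G} {IY : X.Modules}

/-- The inclusion of an elementary modification. -/
noncomputable def stepι (h : IY = kernel ((Scheme.Modules.pullbackPushforwardAdjunction i).unit.app I ≫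
    (Scheme.Modules.pushforward i).map π)) : IY ⟶ I :=
  eqToHom h ≫ kernel.ι _

variable (h : IY = kernel ((Scheme.Modules.pullbackPushforwardAdjunction i).unit.app I ≫
  (Scheme.Modules.pushforward i).map π))

omit [X.Over (Spec (CommRingCat.of R))] [IsClosedImmersion i] in
instance mono_stepι : Mono (stepι h) := mono_comp _ _

omit [X.Over (Spec (CommRingCat.of R))] [IsClosedImmersion i] in
theorem exists_stepι_iff (x : X) (z : I.presheaf.stalk x) :
    (∃ t, stalkLin (stepι h) x t = z) ↔ stalkLin ((Scheme.Modules.pullbackPushforwardAdjunction i).unit.app I ≫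
      (Scheme.Modules.pushforward i).map π) x z = 0 := by
  subst h
  simp only [stepι, eqToHom_refl, Category.id_comp]
  exact ⟨fun ⟨t, ht⟩ => LinearMap.mem_ker.1 ((range_stalk_kernelι _ x).le ⟨t, ht⟩),
    fun hz => (range_stalk_kernelι _ x).ge hz⟩

omit [X.Over (Spec (CommRingCat.of R))] in
theorem exists_stepι_iff_pullStalk (v : Xs) (z : I.presheaf.stalk (i v)) :
    (∃ t, stalkLin (stepι h) (i v) t = z) ↔ stalkLin π v (pullStalk i I v z) = 0 := by
  rw [exists_stepι_iff, show (Scheme.Modules.pullbackPushforwardAdjunction i).unit.app I ≫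
    (Scheme.Modules.pushforward i).map π = (Scheme.Modules.pullbackPushforwardAdjunction i).homEquiv I G π from
    (Adjunction.homEquiv_unit _ _ _ _).symm]
  exact H24Quot.stalkLin_homEquiv_eq_zero_iff i π v z

omit [X.Over (Spec (CommRingCat.of R))] in
theorem exists_stepι_of_notMem {x : X} (hx : x ∉ Set.range i) (z : I.presheaf.stalk x) :
    ∃ t, stalkLin (stepι h) x t = z := by
  rw [exists_stepι_iff]
  haveI : Subsingleton (((Scheme.Modules.pushforward i).obj G).presheaf.stalk x) :=
    not_not.1 (LeadDev.notMem_support_push i G hx)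
  exact Subsingleton.elim _ _

omit [X.Over (Spec (CommRingCat.of R))] in
theorem isCoh_step (h : IY = kernel ((Scheme.Modules.pullbackPushforwardAdjunction i).unit.app I ≫
    (Scheme.Modules.pushforward i).map π)) [IsLocallyNoetherian X] (hI : Coh.IsCoh I) (hG : Coh.IsCoh G) :
    Coh.IsCoh IY := by
  subst h
  exact H10Coh.isCoh_kernel _ hI (H24FSch.isCoh_pushforward_of_isClosedImmersion i hG).1

include hsq hp in
theorem exists_stepι_smul (x : X) (z : I.presheaf.stalk x) : ∃ t, stalkLin (stepι h) x t = p • z := by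
  by_cases hx : x ∈ Set.range i
  · obtain ⟨v, rfl⟩ := hx
    rw [exists_stepι_iff_pullStalk, (pullStalk_eq_zero_iff_smul hsq hp I v _).2 ⟨z, rfl⟩, map_zero]
  · exact exists_stepι_of_notMem h hx _

include hsq hp h in
theorem isFlatOver_step (hI : FlatMod.IsFlatOver (X ↘ Spec (CommRingCat.of R)) I) (hirr : Irreducible p) :
    FlatMod.IsFlatOver (X ↘ Spec (CommRingCat.of R)) IY :=
  isFlatOver_of_regular hirr IY fun x z hz => stalk_injective_of_mono (stepι h) x (by
    rw [map_zero]
    exact isSMulRegular_stalk I hI hirr.ne_zero x _ (by rw [← map_base_smul, hz, map_zero]))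

end step

include hsq hp in
/-- Two successive steps, when the restriction of the first decomposes. -/
theorem step_facts [AlgebraicGeometry.IsNoetherian Xs] [AlgebraicGeometry.IsReduced Xs]
    (hirr : Irreducible p) {Y Y' : Set Xs} (hY' : ∀ η ∈ genericPoints Xs, η ∈ Y' ↔ η ∉ Y)
    {I₀ I₁ I₂ : X.Modules} (hflat : FlatMod.IsFlatOver (X ↘ Spec (CommRingCat.of R)) I₀)
    {G₀ G₁ G₁' : Xs.Modules} {π₀ : (Scheme.Modules.pullback i).obj I₀ ⟶ G₀}
    {π₁ : (Scheme.Modules.pullback i).obj I₁ ⟶ G₁} {π₁' : (Scheme.Modules.pullback i).obj I₁ ⟶ G₁'}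
    (hJ : TFOne.IsTF1 Xs ((Scheme.Modules.pullback i).obj I₀))
    (hJ1 : TFOne.IsTF1 Xs ((Scheme.Modules.pullback i).obj I₁))
    (hG₀ : TFOne.IsQuotOn Xs ((Scheme.Modules.pullback i).obj I₀) Y G₀ π₀)
    (hG₁' : TFOne.IsQuotOn Xs ((Scheme.Modules.pullback i).obj I₁) Y' G₁' π₁')
    (hdec : IsIso (biprod.lift π₁ π₁'))
    (h₀ : I₁ = kernel ((Scheme.Modules.pullbackPushforwardAdjunction i).unit.app I₀ ≫
      (Scheme.Modules.pushforward i).map π₀))
    (h₁ : I₂ = kernel ((Scheme.Modules.pullbackPushforwardAdjunction i).unit.app I₁ ≫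
      (Scheme.Modules.pushforward i).map π₁)) :
    (∀ (x : X) (y : I₁.presheaf.stalk x), ∃ t w,
      stalkLin (stepι h₀) x y = stalkLin (stepι h₀) x (stalkLin (stepι h₁) x t) + p • w) ∧
    (∀ (x : X) (z : I₀.presheaf.stalk x) t, stalkLin (stepι h₀) x (stalkLin (stepι h₁) x t) = p • z →
      ∃ s, stalkLin (stepι h₀) x s = z) := by
  let P := Scheme.Modules.pullback i
  obtain ⟨e0, c0, t0, s0⟩ := hG₀
  obtain ⟨e1', c1', t1', s1'⟩ := hG₁'
  have hmap : ∀ {M N : X.Modules} (φ : M ⟶ N) (v : Xs) (z : M.presheaf.stalk (i v)),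
      stalkLin (P.map φ) v (pullStalk i M v z) = pullStalk i N v (stalkLin φ (i v) z) := fun φ v z =>
    pullStalk_naturality i _ v φ z
  have hsurj : ∀ (M : X.Modules) (v : Xs), Function.Surjective (pullStalk i M v) := fun M v =>
    H24Quot.pullStalk_surjective i M v
  have hu : ∀ (M : X.Modules) (v : Xs) (z : M.presheaf.stalk (i v)), pullStalk i M v z = 0 ↔ ∃ w, p • w = z :=
    fun M v z => pullStalk_eq_zero_iff_smul hsq hp M v z
  -- the second component of the first step goes to zero in the restriction of the bottom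
  have hφ : kernel.ι π₁' ≫ P.map (stepι h₀) = 0 := eq_zero_of_generic hJ.1 hJ.2.1 _ fun η hη a => by
    by_cases hy : η ∈ Y
    · refine (bijective_at_generic hJ hη π₀ (s0 ▸ hy)).1 ?_
      rw [map_zero, stalkLin_comp]
      obtain ⟨y, hy'⟩ := hsurj I₁ η (stalkLin (kernel.ι π₁') η a)
      rw [← hy', hmap]
      exact (exists_stepι_iff_pullStalk h₀ η _).1 ⟨y, rfl⟩
    · haveI := subsingleton_kernel_of_injective π₁'
        (bijective_at_generic hJ1 hη π₁' (s1' ▸ (hY' η hη).2 hy)).1
      rw [Subsingleton.elim a 0, map_zero]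
  -- multiplication by the uniformiser into the first step
  have hm0 : Formal.smulMod R I₀ p ≫ (Scheme.Modules.pullbackPushforwardAdjunction i).unit.app I₀ ≫
      (Scheme.Modules.pushforward i).map π₀ = 0 := eq_zero_of_stalkLin _ fun x z => by
    rw [stalkLin_comp, ← exists_stepι_iff h₀, H24Quot.stalkLin_smulMod]
    exact exists_stepι_smul hsq hp h₀ x z
  let m : I₀ ⟶ I₁ := kernel.lift _ _ hm0 ≫ eqToHom h₀.symm
  have hm : ∀ x z, stalkLin (stepι h₀) x (stalkLin m x z) = p • z := fun x z => by
    rw [← stalkLin_comp, show m ≫ stepι h₀ = Formal.smulMod R I₀ p by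
      simp only [m, stepι, Category.assoc, eqToHom_trans_assoc, eqToHom_refl, Category.id_comp, kernel.lift_ι],
      H24Quot.stalkLin_smulMod]
  have hφ2 : P.map m ≫ π₁' = 0 := eq_zero_of_generic c1' t1' _ fun η hη a => by
    by_cases hy : η ∈ Y
    · haveI : Subsingleton (G₁'.presheaf.stalk η) :=
        subsingleton_of_notMem (by rw [s1']; exact fun hh => (hY' η hη).1 hh hy)
      exact Subsingleton.elim _ _
    · obtain ⟨z, rfl⟩ := hsurj I₀ η a
      haveI : Subsingleton (G₀.presheaf.stalk η) := subsingleton_of_notMem (by rw [s0]; exact hy)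
      obtain ⟨k, rfl⟩ := (exists_stepι_iff_pullStalk h₀ η z).2 (Subsingleton.elim _ _)
      have hk : stalkLin m (i η) (stalkLin (stepι h₀) (i η) k) = p • k :=
        stalk_injective_of_mono (stepι h₀) (i η) (by rw [hm, map_base_smul])
      rw [stalkLin_comp, hmap, hk, (hu I₁ η _).2 ⟨k, rfl⟩, map_zero]
  refine ⟨fun x y => ?_, fun x z t ht => ?_⟩
  · by_cases hx : x ∈ Set.range i
    · obtain ⟨v, rfl⟩ := hx
      obtain ⟨b, hb⟩ := surjStalk (biprod.lift π₁ π₁') v (stalkLin biprod.inl v (stalkLin π₁ v (pullStalk i I₁ v y)))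
      obtain ⟨y', rfl⟩ := hsurj I₁ v b
      have h1 : stalkLin π₁ v (pullStalk i I₁ v y') = stalkLin π₁ v (pullStalk i I₁ v y) := by
        rw [← biprod.lift_fst π₁ π₁', stalkLin_comp, hb, ← stalkLin_comp biprod.inl, biprod.inl_fst,
          biprod.lift_fst, stalkLin_id']
      have h2 : stalkLin π₁' v (pullStalk i I₁ v y') = 0 := by
        rw [← biprod.lift_snd π₁ π₁', stalkLin_comp, hb, ← stalkLin_comp biprod.inl, biprod.inl_snd]
        exact stalkLin_zero _ _
      obtain ⟨a, ha⟩ := (range_stalk_kernelι π₁' v).ge (LinearMap.mem_ker.2 h2)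
      have h3 : pullStalk i I₀ v (stalkLin (stepι h₀) (i v) y') = 0 := by
        rw [← hmap, ← ha, ← stalkLin_comp, hφ]
        exact stalkLin_zero _ _
      obtain ⟨w, hw⟩ := (hu I₀ v _).1 h3
      obtain ⟨t, ht⟩ := (exists_stepι_iff_pullStalk h₁ v (y - y')).2 (by rw [map_sub, map_sub, h1, sub_self])
      exact ⟨t, w, by rw [hw, ht, map_sub, sub_add_cancel]⟩
    · obtain ⟨t, rfl⟩ := exists_stepι_of_notMem h₁ hx y
      exact ⟨t, 0, by rw [smul_zero, add_zero]⟩
  · by_cases hx : x ∈ Set.range i
    · obtain ⟨v, rfl⟩ := hx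
      have hy : stalkLin (stepι h₁) (i v) t = stalkLin m (i v) z :=
        stalk_injective_of_mono (stepι h₀) (i v) (by rw [ht, hm])
      have h1 : stalkLin π₁ v (pullStalk i I₁ v (stalkLin m (i v) z)) = 0 :=
        (exists_stepι_iff_pullStalk h₁ v _).1 ⟨t, hy⟩
      have h2 : stalkLin π₁' v (pullStalk i I₁ v (stalkLin m (i v) z)) = 0 := by
        rw [← hmap, ← stalkLin_comp, hφ2]
        exact stalkLin_zero _ _
      have h3 : stalkLin (biprod.lift π₁ π₁') v (pullStalk i I₁ v (stalkLin m (i v) z)) = 0 := by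
        generalize pullStalk i I₁ v (stalkLin m (i v) z) = a at h1 h2 ⊢
        rw [biprod.lift_eq, stalkLin_add, stalkLin_comp, stalkLin_comp, h1, h2, map_zero, map_zero, add_zero]
      obtain ⟨k, hk⟩ := (hu I₁ v _).1
        (stalk_injective_of_mono (biprod.lift π₁ π₁') v (h3.trans (map_zero _).symm))
      refine ⟨k, sub_eq_zero.1 (isSMulRegular_stalk I₀ hflat hirr.ne_zero (i v) _ ?_)⟩
      rw [smul_sub, ← map_base_smul, hk, hm, sub_self]
    · exact exists_stepι_of_notMem h₀ hx z

end Groth.Agent.H26TF1
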