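import Groth.Agent.H26TF1.Tower
import Groth.Agent.H17.ZDepth.Base
import Mathlib

/-!
# Algebraisation of a tower of submodules
-/

set_option autoImplicit false
set_option linter.style.haveILetI false

universe u

open CategoryTheory CategoryTheory.Limits AlgebraicGeometry TopologicalSpace Opposite

namespace Groth.Agent.H26TF1

open Groth.Agent.H06Mod Groth.Agent.H29Omega Groth.Agent.H17.KoszTwist

attribute [local instance] H24Quot.stkModule

variable {R : Type u} [CommRing R] [IsDomain R] [IsDiscreteValuationRing R] {X : Scheme.{u}}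
  [X.Over (Spec (CommRingCat.of R))]

section tower

variable (In : ℕ → X.Modules) (ι : ∀ n, In (n + 1) ⟶ In n)

/-- The inclusion of a step of a tower into its bottom. -/
noncomputable def incl : ∀ n, In n ⟶ In 0
  | 0 => 𝟙 _
  | n + 1 => ι n ≫ incl n

/-- Membership in the image of the `n`-th step. -/
def Mem (n : ℕ) (x : X) (z : (In 0).presheaf.stalk x) : Prop := ∃ a, stalkLin (incl In ι n) x a = z

omit [IsDomain R] [IsDiscreteValuationRing R] in
theorem incl_succ_apply (n : ℕ) (x : X) (t : (In (n + 1)).presheaf.stalk x) :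
    stalkLin (incl In ι (n + 1)) x t = stalkLin (incl In ι n) x (stalkLin (ι n) x t) :=
  stalkLin_comp (ι n) (incl In ι n) x t

variable {p : R}

theorem incl_injective [∀ n, Mono (ι n)] (n : ℕ) (x : X) : Function.Injective (stalkLin (incl In ι n) x) := by
  induction n with
  | zero => exact fun a b h => by rwa [show incl In ι 0 = 𝟙 _ from rfl, stalkLin_id', stalkLin_id'] at h
  | succ n ih =>
    intro a b h
    rw [incl_succ_apply, incl_succ_apply] at h
    exact stalk_injective_of_mono (ι n) x (ih h)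

variable (hpι : ∀ n (x : X) (z : (In n).presheaf.stalk x), ∃ t, stalkLin (ι n) x t = p • z)
  (hA : ∀ n (x : X) (y : (In (n + 1)).presheaf.stalk x), ∃ t w,
    stalkLin (ι n) x y = stalkLin (ι n) x (stalkLin (ι (n + 1)) x t) + p • w)
  (hB : ∀ n (x : X) (z : (In n).presheaf.stalk x) t, stalkLin (ι n) x (stalkLin (ι (n + 1)) x t) = p • z →
    ∃ s, stalkLin (ι n) x s = z)

omit [IsDomain R] [IsDiscreteValuationRing R] in
theorem mem_zero (x : X) (z : (In 0).presheaf.stalk x) : Mem In ι 0 x z := ⟨z, stalkLin_id' _ x z⟩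

omit [IsDomain R] [IsDiscreteValuationRing R] in
theorem mem_of_succ {n : ℕ} {x : X} {z : (In 0).presheaf.stalk x} (h : Mem In ι (n + 1) x z) :
    Mem In ι n x z := by
  obtain ⟨a, rfl⟩ := h
  exact ⟨_, (incl_succ_apply In ι n x a).symm⟩

include hpι in
omit [IsDomain R] [IsDiscreteValuationRing R] in
theorem mem_succ_smul {n : ℕ} {x : X} {z : (In 0).presheaf.stalk x} (h : Mem In ι n x z) :
    Mem In ι (n + 1) x (p • z) := by
  obtain ⟨a, rfl⟩ := h
  obtain ⟨t, ht⟩ := hpι n x a
  exact ⟨t, by rw [incl_succ_apply, ht, map_base_smul]⟩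

include hpι in
omit [IsDomain R] [IsDiscreteValuationRing R] in
theorem mem_pow_smul (n : ℕ) {x : X} (z : (In 0).presheaf.stalk x) : Mem In ι n x (p ^ n • z) := by
  induction n with
  | zero => exact mem_zero In ι x _
  | succ n ih => rw [pow_succ', mul_smul]; exact mem_succ_smul In ι hpι ih

omit [IsDomain R] [IsDiscreteValuationRing R] in
theorem mem_add {n : ℕ} {x : X} {z z' : (In 0).presheaf.stalk x} (h : Mem In ι n x z) (h' : Mem In ι n x z') :
    Mem In ι n x (z + z') := by
  obtain ⟨a, rfl⟩ := h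
  obtain ⟨b, rfl⟩ := h'
  exact ⟨a + b, map_add _ _ _⟩

include hpι hA in
omit [IsDomain R] [IsDiscreteValuationRing R] in
/-- Every element of the `n`-th step is congruent modulo `p ^ n` to one of the next step. -/
theorem mem_decomp (n : ℕ) : ∀ (x : X) (z : (In 0).presheaf.stalk x), Mem In ι n x z →
    ∃ t w, Mem In ι (n + 1) x t ∧ z = t + p ^ n • w := by
  induction n with
  | zero => exact fun x z _ => ⟨0, z, ⟨0, map_zero _⟩, by simp⟩
  | succ n ih =>
    rintro x _ ⟨y, rfl⟩
    obtain ⟨t, w, htw⟩ := hA n x y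
    obtain ⟨w1, w0, hw1, hw⟩ := ih x (stalkLin (incl In ι n) x w) ⟨w, rfl⟩
    refine ⟨stalkLin (incl In ι (n + 2)) x t + p • w1, w0,
      mem_add In ι ⟨t, rfl⟩ (mem_succ_smul In ι hpι hw1), ?_⟩
    rw [incl_succ_apply, htw, map_add, map_base_smul, hw, ← incl_succ_apply, ← incl_succ_apply, smul_add,
      pow_succ', mul_smul]
    abel

include hpι hB in
omit [IsDomain R] [IsDiscreteValuationRing R] in
/-- Division by the uniformiser. -/
theorem mem_of_smul_mem [∀ n, Mono (ι n)] (n : ℕ) : ∀ (x : X) (z : (In 0).presheaf.stalk x),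
    Mem In ι (n + 1) x (p • z) → Mem In ι n x z := by
  induction n with
  | zero => exact fun x z _ => mem_zero In ι x z
  | succ n ih =>
    intro x z h
    obtain ⟨a, rfl⟩ := ih x z (mem_of_succ In ι h)
    obtain ⟨t, ht⟩ := h
    rw [incl_succ_apply, incl_succ_apply, ← map_base_smul] at ht
    obtain ⟨s, rfl⟩ := hB n x a t (incl_injective In ι n x ht)
    exact ⟨s, incl_succ_apply In ι n x s⟩

include hpι hB in
omit [IsDomain R] [IsDiscreteValuationRing R] in
theorem mem_of_pow_smul_mem [∀ n, Mono (ι n)] (k n : ℕ) : ∀ (x : X) (z : (In 0).presheaf.stalk x),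
    Mem In ι (n + k) x (p ^ k • z) → Mem In ι n x z := by
  induction k with
  | zero => intro x z h; simpa using h
  | succ k ih =>
    intro x z h
    rw [pow_succ', mul_smul] at h
    exact ih x z (mem_of_smul_mem In ι hpι hB (n + k) x _ h)

end tower

variable {p : R}

omit [IsDomain R] in
/-- The stalks of a coherent module have no nonzero infinitely divisible element over the closed fibre. -/
theorem eq_zero_of_forall_pow_dvd [IsLocallyNoetherian X] {M : X.Modules} (hM : Coh.IsCoh M) {x : X}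
    (hx : ¬ IsUnit (H24Quot.base R x p)) (z : M.presheaf.stalk x) (h : ∀ n : ℕ, ∃ w, z = p ^ n • w) : z = 0 := by
  haveI := H17.ZDepth.finite_stalk hM x
  let J : Ideal (X.presheaf.stalk x) := Ideal.span {H24Quot.base R x p}
  have hJ : J ≠ ⊤ := by rwa [Ne, Ideal.span_singleton_eq_top]
  have : z ∈ (⨅ n : ℕ, J ^ n • ⊤ : Submodule (X.presheaf.stalk x) (M.presheaf.stalk x)) := by
    rw [Submodule.mem_iInf]
    intro n
    obtain ⟨w, rfl⟩ := h n
    show H24Quot.base R x (p ^ n) • w ∈ _
    exact Submodule.smul_mem_smul (by rw [map_pow]; exact Ideal.pow_mem_pow (Ideal.mem_span_singleton_self _) n)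
      Submodule.mem_top
  rwa [Ideal.iInf_pow_smul_eq_bot_of_isLocalRing J hJ, Submodule.mem_bot] at this

omit [IsDomain R] in
/-- A coherent module divisible by the uniformiser vanishes along the closed fibre. -/
theorem subsingleton_of_divisible [IsLocallyNoetherian X] {M : X.Modules} (hM : Coh.IsCoh M) {x : X}
    (hx : ¬ IsUnit (H24Quot.base R x p)) (h : ∀ z : M.presheaf.stalk x, ∃ w, z = p • w) :
    Subsingleton (M.presheaf.stalk x) :=
  subsingleton_of_forall_eq 0 fun z => eq_zero_of_forall_pow_dvd hM hx z fun n => by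
    induction n with
    | zero => exact ⟨z, by simp⟩
    | succ n ih =>
      obtain ⟨w, hw⟩ := ih
      obtain ⟨w', rfl⟩ := h w
      exact ⟨w', by rw [hw, pow_succ, mul_smul]⟩

omit [IsDomain R] [IsDiscreteValuationRing R] in
/-- A coherent module on a proper scheme over a local ring vanishing along the closed fibre is zero. -/
theorem isZero_of_closed_fibre [IsLocalRing R] [IsProper (X ↘ Spec (CommRingCat.of R))] {M : X.Modules}
    (hM : Coh.IsCoh M) (h : ∀ x : X, ((X ↘ Spec (CommRingCat.of R)) x : PrimeSpectrum R).asIdeal =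
      IsLocalRing.maximalIdeal R → Subsingleton (M.presheaf.stalk x)) (x : X) :
    Subsingleton (M.presheaf.stalk x) := by
  by_contra hx
  have hc : IsClosed ((X ↘ Spec (CommRingCat.of R)) '' CohB1.support M) :=
    (X ↘ Spec (CommRingCat.of R)).isClosedMap _ (H10Coh.isClosed_support M hM.2)
  obtain ⟨y, hy, hyc⟩ := ((IsLocalRing.specializes_closedPoint _).mem_closed hc ⟨x, hx, rfl⟩ :
    IsLocalRing.closedPoint R ∈ (X ↘ Spec (CommRingCat.of R)) '' CohB1.support M)
  exact hy (h y (congrArg PrimeSpectrum.asIdeal hyc))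

set_option maxHeartbeats 1600000 in
/-- **Algebraisation of a tower.** -/
theorem exists_algebraisation [IsAdicComplete (IsLocalRing.maximalIdeal R) R]
    [IsProper (X ↘ Spec (CommRingCat.of R))] (hp : IsLocalRing.maximalIdeal R = Ideal.span {p})
    (In : ℕ → X.Modules) (ι : ∀ n, In (n + 1) ⟶ In n) [∀ n, Mono (ι n)] (hc : ∀ n, Coh.IsCoh (In n))
    (hpι : ∀ n (x : X) (z : (In n).presheaf.stalk x), ∃ t, stalkLin (ι n) x t = p • z)
    (hA : ∀ n (x : X) (y : (In (n + 1)).presheaf.stalk x), ∃ t w,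
      stalkLin (ι n) x y = stalkLin (ι n) x (stalkLin (ι (n + 1)) x t) + p • w)
    (hB : ∀ n (x : X) (z : (In n).presheaf.stalk x) t, stalkLin (ι n) x (stalkLin (ι (n + 1)) x t) = p • z →
      ∃ s, stalkLin (ι n) x s = z) :
    ∃ (M : X.Modules) (φ : In 0 ⟶ M), Coh.IsCoh M ∧ Epi φ ∧ FlatMod.IsFlatOver (X ↘ Spec (CommRingCat.of R)) M ∧
      ∀ (x : X) (z : (In 0).presheaf.stalk x),
        (∃ w, p • w = stalkLin φ x z) ↔ ∃ t, stalkLin (ι 0) x t = z := by
  haveI : IsLocallyNoetherian X := LocallyOfFiniteType.isLocallyNoetherian (X ↘ Spec (CommRingCat.of R))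
  let I := IsLocalRing.maximalIdeal R
  have hpI : p ∈ I := hp.ge (Ideal.mem_span_singleton_self p)
  have hirr : Irreducible p := by
    obtain ⟨π, hπ⟩ := IsDiscreteValuationRing.exists_irreducible R
    exact ((Ideal.span_singleton_eq_span_singleton.1 (hπ.maximalIdeal_eq.symm.trans hp)).irreducible hπ)
  -- the quotients
  let Q : ℕ → X.Modules := fun n => cokernel (incl In ι (n + 1))
  let q : ∀ n, In 0 ⟶ Q n := fun n => cokernel.π (incl In ι (n + 1))
  have hq : ∀ n x z, stalkLin (q n) x z = 0 ↔ Mem In ι (n + 1) x z := fun n x z =>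
    ⟨fun h => (range_eq_ker_of_exact (ShortComplex.mk (incl In ι (n + 1)) (q n) (cokernel.condition _))
      (ShortComplex.exact_cokernel _) x).ge (LinearMap.mem_ker.2 h),
      fun h => LinearMap.mem_ker.1 ((range_eq_ker_of_exact (ShortComplex.mk (incl In ι (n + 1)) (q n)
        (cokernel.condition _)) (ShortComplex.exact_cokernel _) x).le h)⟩
  have hqs : ∀ n x, Function.Surjective (stalkLin (q n) x) := fun n x => surjStalk (q n) x
  let tr : ∀ n, Q (n + 1) ⟶ Q n := fun n => cokernel.desc _ (q n) (eq_zero_of_stalkLin _ fun x a => by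
    rw [stalkLin_comp, hq]
    exact mem_of_succ In ι ⟨a, rfl⟩)
  have hqtr : ∀ n, q (n + 1) ≫ tr n = q n := fun n => cokernel.π_desc _ _ _
  have hQc : ∀ n, Coh.IsCoh (Q n) := fun n => H10Coh.isCoh_cokernel _ (hc _).1 (hc 0)
  have hdvd : ∀ (n : ℕ) (a : R), a ∈ I ^ n → ∃ c, c * p ^ n = a := fun n a ha => by
    simpa only [I, hp, Ideal.span_singleton_pow, Ideal.mem_span_singleton'] using ha
  have hkill : ∀ n, Formal.KilledBy (I ^ (n + 1)) (Q n) := fun n a ha => eq_zero_of_stalkLin _ fun x w => by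
    obtain ⟨c, rfl⟩ := hdvd _ a ha
    obtain ⟨z, rfl⟩ := hqs n x w
    rw [H24Quot.stalkLin_smulMod, mul_comm, mul_smul, ← map_base_smul, ← map_base_smul, hq]
    exact mem_pow_smul In ι hpι _ _
  let G : ℕᵒᵖ ⥤ X.Modules := Functor.ofOpSequence tr
  have hGmap : ∀ n, G.map (homOfLE (Nat.le_succ n)).op = tr n := fun n =>
    Functor.ofOpSequence_map_homOfLE_succ _ n
  have hG : Formal.IsCohFormal I G := by
    refine ⟨hQc, hkill, fun n => ?_⟩
    have h0 : Formal.smulFamily (I ^ (n + 1)) (Q (n + 1)) ≫ tr n = 0 := Sigma.hom_ext _ _ fun a => by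
      rw [Formal.smulFamily, Sigma.ι_desc_assoc, comp_zero]
      refine eq_zero_of_stalkLin _ fun x w => ?_
      rw [stalkLin_comp, H24Quot.stalkLin_smulMod, map_base_smul, ← H24Quot.stalkLin_smulMod, hkill n _ a.2]
      exact stalkLin_zero _ _
    have h0' : Formal.smulFamily (I ^ (n + 1)) (G.obj (op (n + 1))) ≫ G.map (homOfLE (Nat.le_succ n)).op = 0 := by
      rw [hGmap]; exact h0
    refine ⟨h0', ?_⟩
    let d := cokernel.desc (Formal.smulFamily (I ^ (n + 1)) (Q (n + 1))) (tr n) h0
    have hd : Formal.modPowπ I (n + 1) (Q (n + 1)) ≫ d = tr n := cokernel.π_desc _ _ _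
    haveI : IsIso d := by
      haveI : Mono d := mono_of_stalk_injective _ fun x => by
        rw [injective_iff_map_eq_zero]
        intro c hc'
        haveI : Epi (Formal.modPowπ I (n + 1) (Q (n + 1))) := inferInstanceAs (Epi (cokernel.π _))
        obtain ⟨w, rfl⟩ := surjStalk (Formal.modPowπ I (n + 1) (Q (n + 1))) x c
        obtain ⟨z, rfl⟩ := hqs (n + 1) x w
        have h1 : stalkLin (tr n) x (stalkLin (q (n + 1)) x z) = 0 := by
          rw [← hd]; exact (stalkLin_comp _ _ _ _).trans hc'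
        have h2 : stalkLin (q n) x z = 0 := by rw [← hqtr n]; exact (stalkLin_comp _ _ _ _).trans h1
        obtain ⟨t, w', ht, rfl⟩ := mem_decomp In ι hpι hA (n + 1) x z ((hq n x z).1 h2)
        refine (modPowπ_eq_zero_iff hp _ _ x _).2 ⟨stalkLin (q (n + 1)) x w', ?_⟩
        rw [map_add, (hq _ x t).2 ht, zero_add, map_base_smul]
      haveI : Epi d := by
        haveI : Epi (Formal.modPowπ I (n + 1) (Q (n + 1)) ≫ d) := by
          rw [hd]
          haveI : Epi (q (n + 1) ≫ tr n) := by rw [hqtr]; infer_instance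
          exact epi_of_epi (q (n + 1)) (tr n)
        exact epi_of_epi (Formal.modPowπ I (n + 1) (Q (n + 1))) d
      exact isIso_of_mono_of_epi d
    have key : ∀ (ψ : Q (n + 1) ⟶ Q n), ψ = tr n →
        ∀ h : Formal.smulFamily (I ^ (n + 1)) (Q (n + 1)) ≫ ψ = 0, IsIso (cokernel.desc _ ψ h) := by
      rintro _ rfl h
      exact inferInstanceAs (IsIso d)
    exact key _ (hGmap n) h0'
  obtain ⟨M, hM, ⟨e⟩⟩ := (S0004.result R I X).2 G hG
  -- the map from the bottom of the tower
  have hlift : ∀ n, Formal.smulFamily (I ^ (n + 1)) (In 0) ≫ q n = 0 := fun n => Sigma.hom_ext _ _ fun a => by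
    rw [Formal.smulFamily, Sigma.ι_desc_assoc, comp_zero]
    refine eq_zero_of_stalkLin _ fun x w => ?_
    rw [stalkLin_comp, H24Quot.stalkLin_smulMod, map_base_smul, ← H24Quot.stalkLin_smulMod, hkill n _ a.2]
    exact stalkLin_zero _ _
  let g : Formal.completion I (In 0) ⟶ G := NatTrans.ofOpSequence
    (fun n => cokernel.desc _ (q n) (hlift n)) (fun n => by
      rw [hGmap]
      rw [show (Formal.completion I (In 0)).map (homOfLE (n.le_add_right 1)).op = Formal.modPowTrans I (n + 1) (In 0)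
        from Functor.ofOpSequence_map_homOfLE_succ _ n]
      show Formal.modPowTrans I (n + 1) (In 0) ≫ cokernel.desc (Formal.smulFamily (I ^ (n + 1)) (In 0)) (q n) (hlift n) =
        cokernel.desc (Formal.smulFamily (I ^ (n + 1 + 1)) (In 0)) (q (n + 1)) (hlift (n + 1)) ≫ tr n
      haveI : Epi (Formal.modPowπ I (n + 1 + 1) (In 0)) := inferInstanceAs (Epi (cokernel.π _))
      rw [← cancel_epi (Formal.modPowπ I (n + 1 + 1) (In 0)), ← Category.assoc, Formal.modPowπ_trans]
      show cokernel.π _ ≫ cokernel.desc _ (q n) (hlift n) = cokernel.π _ ≫ cokernel.desc _ (q (n + 1)) _ ≫ tr n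
      rw [cokernel.π_desc, cokernel.π_desc_assoc, hqtr])
  obtain ⟨φ, hφ, -⟩ := (S0004.result R I X).1 (In 0) M (hc 0) hM (g ≫ e.inv)
  let ei : ∀ n, Q n ⟶ Formal.modPow I (n + 1) M := fun n => e.inv.app (op n)
  haveI : ∀ n, IsIso (ei n) := fun n => inferInstanceAs (IsIso (e.inv.app (op n)))
  have hφn : ∀ n, φ ≫ Formal.modPowπ I (n + 1) M = q n ≫ ei n := fun n => by
    rw [← hφ n]
    show cokernel.π _ ≫ cokernel.desc _ (q n) (hlift n) ≫ ei n = _
    rw [cokernel.π_desc_assoc]
  have hmem : ∀ n x z, (∃ w, p ^ (n + 1) • w = stalkLin φ x z) ↔ Mem In ι (n + 1) x z := fun n x z => by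
    rw [← modPowπ_eq_zero_iff hp, ← stalkLin_comp, hφn, stalkLin_comp, ← hq]
    exact map_eq_zero_iff _ (stalk_injective_of_mono (ei n) x)
  have hS1 : ∀ x z, Mem In ι 1 x z ↔ ∃ t, stalkLin (ι 0) x t = z := fun x z => by
    show (∃ a, stalkLin (ι 0 ≫ 𝟙 (In 0)) x a = z) ↔ _
    rw [Category.comp_id]
  have hclosed : ∀ x : X, ((X ↘ Spec (CommRingCat.of R)) x : PrimeSpectrum R).asIdeal = I →
      ¬ IsUnit (H24Quot.base R x p) := by
    intro x hx hu
    let f := X ↘ Spec (CommRingCat.of R)
    let qq : PrimeSpectrum R := f x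
    letI := StructureSheaf.stalkAlgebra (R := R) qq
    haveI := StructureSheaf.IsLocalization.to_stalk R qq
    have h1 : IsUnit ((f.stalkMap x).hom
        ((Spec (CommRingCat.of R)).presheaf.germ ⊤ (f x) trivial ((Scheme.ΓSpecIso (CommRingCat.of R)).inv p))) := by
      erw [Scheme.Hom.germ_stalkMap_apply]; exact hu
    have h2 := (isUnit_map_iff (f.stalkMap x).hom _).1 h1
    exact (IsLocalization.AtPrime.isUnit_to_map_iff ((Spec.structureSheaf R).presheaf.stalk qq) qq.asIdeal p).1 h2
      (hx ▸ hpI)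
  -- surjectivity
  haveI hφepi : Epi φ := by
    refine Preadditive.epi_of_cokernel_zero (eq_zero_of_stalkLin _ fun x w => ?_)
    haveI := isZero_of_closed_fibre (H10Coh.isCoh_cokernel φ (hc 0).1 hM) (fun y hy =>
      subsingleton_of_divisible (p := p) (H10Coh.isCoh_cokernel φ (hc 0).1 hM) (hclosed y hy) fun c => by
        obtain ⟨m, rfl⟩ := surjStalk (cokernel.π φ) y c
        haveI : Epi (q 0 ≫ ei 0) := epi_comp _ _
        obtain ⟨z, hz⟩ := surjStalk (q 0 ≫ ei 0) y (stalkLin (Formal.modPowπ I (0 + 1) M) y m)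
        rw [← hφn, stalkLin_comp, ← sub_eq_zero, ← map_sub, modPowπ_eq_zero_iff hp] at hz
        obtain ⟨w, hw⟩ := hz
        refine ⟨- stalkLin (cokernel.π φ) y w, ?_⟩
        have : m = stalkLin φ y z - p ^ (0 + 1) • w := by rw [hw]; abel
        rw [this, map_sub, map_base_smul, ← stalkLin_comp, cokernel.condition, smul_neg, pow_one]
        show stalkLin (0 : In 0 ⟶ _) y z - _ = _
        rw [stalkLin_zero, zero_sub]) x
    exact Subsingleton.elim _ _
  refine ⟨M, φ, hM, hφepi, isFlatOver_of_regular hirr M fun x z hz => ?_, fun x z => ?_⟩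
  · haveI := isZero_of_closed_fibre (H10Coh.isCoh_kernel (Formal.smulMod R M p) hM hM.1) (fun y hy =>
      subsingleton_of_forall_eq 0 fun c => stalk_injective_of_mono (kernel.ι _) y (by
        rw [map_zero]
        have h1 : p • stalkLin (kernel.ι (Formal.smulMod R M p)) y c = 0 := by
          rw [← H24Quot.stalkLin_smulMod, ← stalkLin_comp, kernel.condition]; exact stalkLin_zero _ _
        obtain ⟨a, ha⟩ := surjStalk φ y (stalkLin (kernel.ι (Formal.smulMod R M p)) y c)
        rw [← ha] at h1 ⊢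
        rw [← map_base_smul] at h1
        refine eq_zero_of_forall_pow_dvd (p := p) hM (hclosed y hy) _ fun n => ?_
        rcases n with _ | n
        · exact ⟨stalkLin φ y a, by simp⟩
        · have h2 : Mem In ι (n + 2) y (p • a) := (hmem (n + 1) y _).1 ⟨0, by rw [h1, smul_zero]⟩
          obtain ⟨w, hw⟩ := (hmem n y a).2 (mem_of_smul_mem In ι hpι hB (n + 1) y a h2)
          exact ⟨w, hw.symm⟩)) x
    obtain ⟨c, rfl⟩ := (range_stalk_kernelι (Formal.smulMod R M p) x).ge
      (LinearMap.mem_ker.2 (show stalkLin (Formal.smulMod R M p) x z = 0 by rw [H24Quot.stalkLin_smulMod]; exact hz))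
    rw [Subsingleton.elim c 0, map_zero]
  · rw [← hS1, ← hmem 0, zero_add, pow_one]

end Groth.Agent.H26TF1
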